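import Groth.Agent.CBLib.Main
import Groth.Agent.VBLib.TwistH0
import Groth.Agent.DCohLib.TensorPerf

/-!
# Rank two bundles with a section vanishing on given points
-/

set_option autoImplicit false
set_option backward.isDefEq.respectTransparency false
set_option linter.style.haveILetI false
set_option maxHeartbeats 1000000
set_option synthInstance.maxHeartbeats 200000

universe u

open CategoryTheory CategoryTheory.Limits AlgebraicGeometry TopologicalSpace
open Groth.Agent.PullbackMod Groth.Agent.DCohLib Groth.Agent.CurveLib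

noncomputable section

namespace Groth.Agent.CBLib

variable {X : Scheme.{u}}

theorem exists_transport {S : ShortComplex X.Modules} (hS : S.ShortExact) {A B : X.Modules}
    (eA : S.X₁ ≅ A) (eB : S.X₃ ≅ B) :
    ∃ (a : A ⟶ S.X₂) (b : S.X₂ ⟶ B) (w : a ≫ b = 0), (ShortComplex.mk a b w).ShortExact :=
  ⟨eA.inv ≫ S.f, S.g ≫ eB.hom, by rw [Category.assoc, ← Category.assoc S.f, S.zero, zero_comp, comp_zero],
    ShortComplex.shortExact_of_iso (ShortComplex.isoMk eA (Iso.refl _) eB (by simp) (by simp)) hS⟩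

variable (k : Type u) [Field k] [IsAlgClosed k] [CharZero k] [X.Over (Spec (CommRingCat.of k))]
  [IsProper (X ↘ Spec (CommRingCat.of k))] [Smooth (X ↘ Spec (CommRingCat.of k))] [IsIntegral X]

omit [IsAlgClosed k] [CharZero k] [Smooth (X ↘ Spec (CommRingCat.of k))] in
include k in
theorem grk_idealMod (hdim : topologicalKrullDim X = 2) (Z : Finset X) (hZc : IsClosed (Z : Set X)) :
    VBLib.grk (ClSub.idealMod (setI Z hZc)) = 1 := by
  haveI := EulerIneqLib.isNoetherian_proper (X := X) k
  obtain ⟨w, hS⟩ := shortExact_setI k Z hZc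
  have hQ : Coh.IsCoh (ClSub.quotMod (setI Z hZc)) := IntLib.isCoh_quotMod _
  have h := VBLib.grk_add hS (RefOne.isCoh_idealMod _) hQ
  rw [VBLib.grk_of_rank (CurveLib.isFinLocFreeOfRank_one ParaFLib.isInvertible_structureModule)] at h
  have h0 : VBLib.grk (ClSub.quotMod (setI Z hZc)) = 0 := by
    refine (VBLib.grk_eq_zero_iff hQ).2 fun hη => ?_
    have hm : genericPoint X ∈ (Z : Set X) := by
      have := IntLib.support_quotMod_subset (setI Z hZc) hη
      rwa [Scheme.IdealSheafData.coe_support_vanishingIdeal] at this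
    have hsub : (Set.univ : Set X) ⊆ Z := fun x _ =>
      (genericPoint_specializes x).mem_closed hZc hm
    haveI : Finite X := Set.finite_univ_iff.1 (Z.finite_toSet.subset hsub)
    have hd : topologicalKrullDim (Set.univ : Set X) ≤ 0 :=
      ExtStab.dim_le_zero_of_finite_closed k isClosed_univ Set.finite_univ
    rw [IsHomeomorph.topologicalKrullDim_eq _ (Homeomorph.Set.univ X).isHomeomorph, hdim] at hd
    exact absurd hd (by norm_num)
  change 1 = VBLib.grk (ClSub.idealMod (setI Z hZc)) + VBLib.grk (ClSub.quotMod (setI Z hZc)) at h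
  omega

include k in
/-- The Koszul extension exists exactly under the Cayley–Bacharach condition. -/
theorem exists_koszul_iff_cb (hdim : topologicalKrullDim X = 2) {H : X.Modules} (hH : CohB1.IsAmple H)
    {L : X.Modules} (hL : PicF.IsInvertible L)
    {ω : X.Modules} (hω : ExtPow.IsExtPow 2 (Omega.sheaf (X ↘ Spec (CommRingCat.of k))) ω)
    (Z : Finset X) (hZc : IsClosed ((Z : Set X))) (hZ : ∀ z ∈ Z, IsClosed ({z} : Set X)) :
    (∃ (E : X.Modules) (sE : Coh.structureModule X ⟶ E)
        (p : E ⟶ CohB1.tensorMod L (ClSub.idealMod (Scheme.IdealSheafData.vanishingIdeal ⟨(Z : Set X), hZc⟩)))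
        (w : sE ≫ p = 0), FlatMod.IsFinLocFreeOfRank 2 E ∧ (ShortComplex.mk sE p w).ShortExact) ↔
      (∀ z ∈ Z, ∀ σ : Coh.structureModule X ⟶ CohB1.tensorMod L ω,
        (∀ z' ∈ Z, z' ≠ z → z' ∈ (PicF2.zeroScheme (CohB1.tensorMod L ω) σ).support) →
          z ∈ (PicF2.zeroScheme (CohB1.tensorMod L ω) σ).support) := by
  haveI := EulerIneqLib.isNoetherian_proper (X := X) k
  have hωi := (exists_trace k hdim hH hω).1
  obtain ⟨M, hM, ⟨d⟩⟩ := AmpleEmb.exists_isInverseOf hL
  let θ : CohB1.tensorMod M (CohB1.tensorMod L ω) ≅ ω :=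
    (AmpleLib.assoc M L ω).symm ≪≫ AmpleLib.tIso (AmpleLib.comm M L ≪≫ d) (Iso.refl ω) ≪≫ CurveLib.tmodUnit ω
  rw [← exists_flf_extension_iff_cb k hdim hH hω hM (AmpleLib.isInvertible_tensor hL hωi) θ Z hZc hZ]
  let I := ClSub.idealMod (setI Z hZc)
  have hflM : FlatMod.IsFinLocFree M := CurveLib.isFinLocFree_of_isInvertible hM
  have hflL : FlatMod.IsFinLocFree L := CurveLib.isFinLocFree_of_isInvertible hL
  constructor
  · rintro ⟨E, sE, p, w, hE, hS⟩
    have hS' := CurveLib.shortExact_tensR hS (fun x => CurveLib.freeAt_one_of_isInvertible hM x)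
    let e3 : (CurveLib.tensR M).obj (CohB1.tensorMod L I) ≅ I :=
      AmpleLib.tIso (AmpleLib.comm L I) (Iso.refl M) ≪≫ AmpleLib.assoc I L M ≪≫ AmpleLib.tIso (Iso.refl I) d ≪≫
        (ModTensor.tensorUnitRight X.sheaf).app I
    obtain ⟨a, b, w', hex⟩ := exists_transport hS' (CurveLib.tmodUnit M) e3
    exact ⟨_, a, b, w', hex, DCohLib.isFinLocFree_tensor ((fun x => let ⟨U, hx, e⟩ := hE x; ⟨U, 2, hx, e⟩)) hflM⟩
  · rintro ⟨F, a, b, w, hex, hF⟩
    have hS' := CurveLib.shortExact_tensR hex (fun x => CurveLib.freeAt_one_of_isInvertible hL x)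
    obtain ⟨sE, p, w', hex'⟩ := exists_transport hS' (AmpleLib.comm M L ≪≫ d)
      (AmpleLib.comm I L : (CurveLib.tensR L).obj I ≅ CohB1.tensorMod L I)
    have hE : FlatMod.IsFinLocFree ((CurveLib.tensR L).obj F) := DCohLib.isFinLocFree_tensor hF hflL
    obtain ⟨n, hn⟩ := KRRAmple.exists_isFinLocFreeOfRank hE
    have hg := VBLib.grk_add hex' (DevLib.isCoh_structureModule X)
      (CurveLib.isCoh_tmod (CurveLib.isCoh_of_isInvertible hL) (RefOne.isCoh_idealMod _))
    rw [VBLib.grk_of_rank (CurveLib.isFinLocFreeOfRank_one ParaFLib.isInvertible_structureModule),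
      VBLib.grk_iso (AmpleLib.comm L I), VBLib.grk_twist hL, grk_idealMod k hdim Z hZc] at hg
    change VBLib.grk ((CurveLib.tensR L).obj F) = 1 + 1 at hg
    rw [VBLib.grk_of_rank hn] at hg
    subst hg
    exact ⟨_, sE, p, w', hn, hex'⟩

end Groth.Agent.CBLib
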