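import Groth.Agent.CBLib.Pairing
import Groth.Agent.ExtStabLib.ReducedExt

/-!
# The Cayley–Bacharach criterion
-/

set_option autoImplicit false
set_option backward.isDefEq.respectTransparency false
set_option linter.style.haveILetI false
set_option maxHeartbeats 1000000
set_option synthInstance.maxHeartbeats 200000

universe u

open CategoryTheory CategoryTheory.Limits CategoryTheory.Abelian AlgebraicGeometry TopologicalSpace
open Groth.Agent.PullbackMod Groth.Agent.DCohLib Groth.Agent.CurveLib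

noncomputable section

namespace Groth.Agent.CBLib

variable (k : Type u) [Field k] [IsAlgClosed k] [CharZero k] {X : Scheme.{u}} [X.Over (Spec (CommRingCat.of k))]
  [IsProper (X ↘ Spec (CommRingCat.of k))] [Smooth (X ↘ Spec (CommRingCat.of k))] [IsIntegral X]
  (hdim : topologicalKrullDim X = 2) {H : X.Modules} (hH : CohB1.IsAmple H)
  {ω : X.Modules} (hω : ExtPow.IsExtPow 2 (Omega.sheaf (X ↘ Spec (CommRingCat.of k))) ω)
  {M W : X.Modules} (hM : PicF.IsInvertible M) (hW : PicF.IsInvertible W)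
  (θ : (CurveLib.tensR W).obj M ≅ ω)
  (Z : Finset X) (hZc : IsClosed ((Z : Set X))) (hZ : ∀ z ∈ Z, IsClosed ({z} : Set X))

omit [CharZero k] [Smooth (X ↘ Spec (CommRingCat.of k))] [IsIntegral X] [IsAlgClosed k] in
include k in
theorem shortExact_setI : ∃ w, (ShortComplex.mk (ClSub.idealModι (setI Z hZc)) (ClSub.toSubscheme (setI Z hZc)) w).ShortExact := by
  haveI := EulerIneqLib.isNoetherian_proper (X := X) k
  haveI : Epi (ClSub.toSubscheme (setI Z hZc)) := HilbObsLib.epi_toSubscheme _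
  haveI : Mono (ClSub.idealModι (setI Z hZc)) := inferInstanceAs (Mono (kernel.ι _))
  exact ⟨kernel.condition _,
    { exact := ShortComplex.exact_of_f_is_kernel _ (kernelIsKernel (ClSub.toSubscheme (setI Z hZc))) }⟩

omit [X.Over (Spec (CommRingCat.of k))] [IsProper (X ↘ Spec (CommRingCat.of k))] [CharZero k] [IsAlgClosed k]
  [Smooth (X ↘ Spec (CommRingCat.of k))] [IsIntegral X] in
theorem resMap_comp {I J K : X.IdealSheafData} (h : I ≤ J) (h' : J ≤ K) [Epi (ClSub.toSubscheme I)] :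
    resMap h ≫ resMap h' = resMap (h.trans h') := by
  rw [← cancel_epi (ClSub.toSubscheme I), ← Category.assoc, LefAmpleLib.toSubscheme_quotMap,
    LefAmpleLib.toSubscheme_quotMap, LefAmpleLib.toSubscheme_quotMap]

include hdim hH hω hM hW θ hZ in
/-- The condition at one point. -/
theorem not_surjective_iff [HasExt.{u} X.Modules] [DecidableEq X] {z : X} (hzm : z ∈ Z)
    (hZ'c : IsClosed ((Z.erase z : Finset X) : Set X))
    (φ : ClSub.idealMod (setI Z hZc) ⟶ ClSub.idealMod (setI (Z.erase z) hZ'c))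
    (hφ : φ ≫ ClSub.idealModι (setI (Z.erase z) hZ'c) = ClSub.idealModι (setI Z hZc)) :
    ¬ Function.Surjective ((Ext.mk₀ φ).precomp M (zero_add 1)) ↔
      ∀ s : Coh.structureModule X ⟶ W,
        (∀ z' ∈ Z, z' ≠ z → z' ∈ (PicF2.zeroScheme W s).support) → z ∈ (PicF2.zeroScheme W s).support := by
  haveI := EulerIneqLib.isNoetherian_proper (X := X) k
  obtain ⟨-, t, ht⟩ := exists_trace k hdim hH hω
  haveI : Epi (ClSub.toSubscheme (setI Z hZc)) := HilbObsLib.epi_toSubscheme _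
  obtain ⟨j, hjp, hj0, hjsum⟩ := exists_split k hZc hZ
  let p : ∀ y : Z, ClSub.quotMod (setI Z hZc) ⟶ ptQ (y : X) (hZ y y.2) :=
    fun y => resMap (setI_le_pt hZc (hZ y y.2) y.2)
  let z₀ : Z := ⟨z, hzm⟩
  have hle : setI Z hZc ≤ setI (Z.erase z) hZ'c := Scheme.IdealSheafData.vanishingIdeal_antimono
    (show ((Z.erase z : Finset X) : Set X) ⊆ Z from Finset.coe_subset.2 (Finset.erase_subset z Z))
  let q := resMap hle
  obtain ⟨w, hS⟩ := shortExact_setI k Z hZc
  obtain ⟨w', hS'⟩ := shortExact_setI k (Z.erase z) hZ'c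
  let T : ShortComplex.mk (ClSub.idealModι (setI Z hZc)) (ClSub.toSubscheme (setI Z hZc)) w ⟶
      ShortComplex.mk (ClSub.idealModι (setI (Z.erase z) hZ'c)) (ClSub.toSubscheme (setI (Z.erase z) hZ'c)) w' :=
    { τ₁ := φ, τ₂ := 𝟙 _, τ₃ := q, comm₁₂ := hφ.trans (Category.comp_id _).symm,
      comm₂₃ := (Category.id_comp _).trans (LefAmpleLib.toSubscheme_quotMap hle).symm }
  have hnat : hS.extClass.comp (Ext.mk₀ φ) (add_zero 1) = (Ext.mk₀ q).comp hS'.extClass (zero_add 1) :=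
    ShortComplex.ShortExact.extClass_naturality hS hS' T
  have hjq : j z₀ ≫ q = 0 := by
    obtain ⟨j', -, -, hs'⟩ := exists_split k hZ'c (fun x hx => hZ x (Finset.mem_of_mem_erase hx))
    rw [← Category.comp_id (j z₀ ≫ q), ← hs', Preadditive.comp_sum]
    refine Finset.sum_eq_zero fun y _ => ?_
    have hy : (y : X) ∈ Z := Finset.mem_of_mem_erase y.2
    have hne : z₀ ≠ ⟨(y : X), hy⟩ := fun h => Finset.ne_of_mem_erase y.2 (congrArg Subtype.val h).symm
    rw [← Category.assoc, Category.assoc (j z₀), resMap_comp]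
    exact (congrArg (· ≫ j' y) (hj0 z₀ ⟨(y : X), hy⟩ hne)).trans zero_comp
  have hcomp : ∀ (y : Z) (η : Ext.{u} (ptQ (y : X) (hZ y y.2)) M 2),
      (Ext.mk₀ (ClSub.toSubscheme (setI Z hZc))).comp ((Ext.mk₀ (p y)).comp η (zero_add 2)) (zero_add 2) =
        (Ext.mk₀ (ptπ (y : X) (hZ y y.2))).comp η (zero_add 2) := fun y η => by
    rw [← Ext.comp_assoc_of_second_deg_zero, Ext.mk₀_comp_mk₀]
    exact congrArg (fun f => (Ext.mk₀ f).comp η (zero_add 2)) (LefAmpleLib.toSubscheme_quotMap _)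
  have hdec : ∀ η : Ext.{u} (ClSub.quotMod (setI Z hZc)) M 2,
      η = ∑ y : Z, (Ext.mk₀ (p y)).comp ((Ext.mk₀ (j y)).comp η (zero_add 2)) (zero_add 2) := fun η => by
    let f : (ClSub.quotMod (setI Z hZc) ⟶ ClSub.quotMod (setI Z hZc)) →+ Ext.{u} (ClSub.quotMod (setI Z hZc)) M 2 :=
      AddMonoidHom.mk' (fun g => (Ext.mk₀ g).comp η (zero_add 2)) fun a b => by rw [Ext.mk₀_add, Ext.add_comp]
    calc η = f (𝟙 _) := (Ext.mk₀_id_comp η).symm
      _ = f (∑ y : Z, p y ≫ j y) := by rw [← hjsum]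
      _ = ∑ y : Z, f (p y ≫ j y) := map_sum f _ _
      _ = _ := Finset.sum_congr rfl fun y _ => by
        show (Ext.mk₀ (p y ≫ j y)).comp η (zero_add 2) = _
        rw [← Ext.mk₀_comp_mk₀, Ext.comp_assoc_of_second_deg_zero]
  constructor
  · intro hns s hs
    by_contra hsz
    apply hns
    intro e
    set η := hS.extClass.comp e (show 1 + 1 = 2 from rfl) with hη
    have hπ : (Ext.mk₀ (ClSub.toSubscheme (setI Z hZc))).comp η (zero_add 2) = 0 := by
      rw [hη]; exact ShortComplex.ShortExact.comp_extClass_assoc hS e _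
    let comp : Ext.{u} (ClSub.quotMod (setI Z hZc)) M 2 →+ k :=
      AddMonoidHom.mk' (fun x => ev k θ t s
        (chi M 2 ((Ext.mk₀ (ClSub.toSubscheme (setI Z hZc))).comp x (zero_add 2))))
        fun a b => by rw [Ext.comp_add, map_add, map_add]
    have hc : comp η = 0 := by
      show ev k θ t s (chi M 2 _) = 0
      rw [hπ, map_zero, map_zero]
    rw [hdec η, map_sum, Finset.sum_eq_single z₀ (fun y _ hy => by
        show ev k θ t s (chi M 2 _) = 0
        rw [hcomp]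
        exact ev_eq_zero k hW θ t (hZ y y.2) s (hs y y.2 fun h => hy (Subtype.ext h)) ⟨_, rfl⟩)
      (fun h => absurd (Finset.mem_univ _) h)] at hc
    change ev k θ t s (chi M 2 _) = 0 at hc
    rw [hcomp] at hc
    have hz0 : (Ext.mk₀ (j z₀)).comp η (zero_add 2) = 0 :=
      by_contra fun hne => ev_ne_zero k hdim hH hω hW θ ht (hZ z hzm) s hsz hne hc
    let η' : Ext.{u} (ClSub.quotMod (setI (Z.erase z) hZ'c)) M 2 :=
      ∑ y : Z, if h : (y : X) ∈ Z.erase z then
        (Ext.mk₀ (resMap (setI_le_pt hZ'c (hZ y y.2) h))).comp ((Ext.mk₀ (j y)).comp η (zero_add 2)) (zero_add 2)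
      else 0
    have hη' : (Ext.mk₀ q).comp η' (zero_add 2) = η := by
      let f : Ext.{u} (ClSub.quotMod (setI (Z.erase z) hZ'c)) M 2 →+ Ext.{u} (ClSub.quotMod (setI Z hZc)) M 2 :=
        AddMonoidHom.mk' (fun x => (Ext.mk₀ q).comp x (zero_add 2)) fun a b => Ext.comp_add _ _ _ _
      show f η' = η
      conv_rhs => rw [hdec η]
      rw [map_sum]
      refine Finset.sum_congr rfl fun y _ => ?_
      by_cases hy : y = z₀
      · subst hy
        rw [hz0, Ext.comp_zero, dif_neg (Finset.notMem_erase z Z), map_zero]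
      · have hy' : (y : X) ∈ Z.erase z := Finset.mem_erase.2 ⟨fun h => hy (Subtype.ext h), y.2⟩
        rw [dif_pos hy']
        show (Ext.mk₀ q).comp _ (zero_add 2) = _
        rw [← Ext.comp_assoc_of_second_deg_zero, Ext.mk₀_comp_mk₀, resMap_comp]
    have hπ' : (Ext.mk₀ (ClSub.toSubscheme (setI (Z.erase z) hZ'c))).comp η' (zero_add 2) = 0 := by
      rw [← LefAmpleLib.toSubscheme_quotMap hle, ← Ext.mk₀_comp_mk₀, Ext.comp_assoc_of_second_deg_zero]
      exact (congrArg (fun x => (Ext.mk₀ (ClSub.toSubscheme (setI Z hZc))).comp x (zero_add 2)) hη').trans hπ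
    obtain ⟨e', he'⟩ := Ext.contravariant_sequence_exact₃ hS' M η' hπ' (show 1 + 1 = 2 from rfl)
    have hd : hS.extClass.comp (e - (Ext.mk₀ φ).comp e' (zero_add 1)) (show 1 + 1 = 2 from rfl) = 0 := by
      rw [sub_eq_add_neg, Ext.comp_add, Ext.comp_neg, ← sub_eq_add_neg, sub_eq_zero, ← hη,
        ← Ext.comp_assoc_of_second_deg_zero, hnat, Ext.comp_assoc _ _ _ (zero_add 1) (show 1 + 1 = 2 from rfl)
          (by omega), he', hη']
    obtain ⟨h, hh⟩ := Ext.contravariant_sequence_exact₁ hS M _ (show 1 + 1 = 2 from rfl) hd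
    refine ⟨e' + (Ext.mk₀ (ClSub.idealModι (setI (Z.erase z) hZ'c))).comp h (zero_add 1), ?_⟩
    show (Ext.mk₀ φ).comp _ (zero_add 1) = e
    rw [Ext.comp_add, ← Ext.comp_assoc_of_second_deg_zero, Ext.mk₀_comp_mk₀, hφ]
    exact (congrArg (_ + ·) hh).trans (add_sub_cancel _ _)
  · intro hcb hsurj
    obtain ⟨ηz, hηz⟩ := exists_ne_zero k hdim hH hω hM (hZ z hzm)
    let f := chi M 2 ((Ext.mk₀ (ptπ z (hZ z hzm))).comp ηz (zero_add 2))
    have hmem : f ∈ ⨆ y ∈ Finset.univ.erase z₀, residues k M (hZ (y : Z).1 (y : Z).2) := by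
      by_contra hnot
      obtain ⟨ψ, hψf, hψ⟩ := Submodule.exists_le_ker_of_notMem hnot
      obtain ⟨φ', hφ', -⟩ := ht M (CurveLib.isCoh_of_isInvertible hM) ψ
      obtain ⟨s, hs⟩ := exists_sec hM (φ' ≫ θ.inv)
      have hev : ev k θ t s = ψ := by
        have h1 : (secTw s).app M ≫ θ.hom = φ' :=
          (congrArg (· ≫ θ.hom) hs).trans ((Category.assoc _ _ _).trans
            ((congrArg (φ' ≫ ·) θ.inv_hom_id).trans (Category.comp_id φ')))
        show t.comp (CurveLib.hMap (k := k) ((secTw s).app M ≫ θ.hom) 2) = ψ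
        rw [h1]
        exact LinearMap.ext fun x => (hφ' x).symm
      apply hψf
      rw [← hev]
      refine ev_eq_zero k hW θ t (hZ z hzm) s (hcb s fun z' hz' hne => ?_) ⟨ηz, rfl⟩
      by_contra hz'0
      obtain ⟨η', hη'⟩ := exists_ne_zero k hdim hH hω hM (hZ z' hz')
      refine ev_ne_zero k hdim hH hω hW θ ht (hZ z' hz') s hz'0 hη' ?_
      rw [hev]
      refine LinearMap.mem_ker.1 (hψ ?_)
      exact Submodule.mem_iSup_of_mem (⟨z', hz'⟩ : Z) (Submodule.mem_iSup_of_mem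
        (Finset.mem_erase.2 ⟨fun h => hne (congrArg Subtype.val h), Finset.mem_univ _⟩) ⟨η', rfl⟩)
    obtain ⟨μ, hμ⟩ := (Submodule.mem_iSup_finset_iff_exists_sum _ _).1 hmem
    have hpre : ∀ y : Z, ∃ a : Ext.{u} (ptQ (y : X) (hZ y y.2)) M 2,
        chi M 2 ((Ext.mk₀ (ptπ (y : X) (hZ y y.2))).comp a (zero_add 2)) = (μ y : Coh.HH X M 2) := fun y => (μ y).2
    choose a ha using hpre
    let η : Ext.{u} (ClSub.quotMod (setI Z hZc)) M 2 :=
      (Ext.mk₀ (p z₀)).comp ηz (zero_add 2) -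
        ∑ y ∈ Finset.univ.erase z₀, (Ext.mk₀ (p y)).comp (a y) (zero_add 2)
    let g : Ext.{u} (ClSub.quotMod (setI Z hZc)) M 2 →+ Coh.HH X M 2 :=
      AddMonoidHom.mk' (fun x => chi M 2 ((Ext.mk₀ (ClSub.toSubscheme (setI Z hZc))).comp x (zero_add 2)))
        fun x y => by rw [Ext.comp_add, map_add]
    have hg0 : g η = 0 := by
      rw [map_sub, map_sum, sub_eq_zero]
      refine (?_ : _ = f).trans (hμ.symm.trans (Finset.sum_congr rfl fun y _ => ?_))
      · exact congrArg (chi M 2) (hcomp z₀ ηz)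
      · rw [← ha y]
        exact congrArg (chi M 2) (hcomp y (a y)).symm
    obtain ⟨e, he⟩ := Ext.contravariant_sequence_exact₃ hS M η ((chi M 2).map_eq_zero_iff.1 hg0)
      (show 1 + 1 = 2 from rfl)
    obtain ⟨e', he'⟩ := hsurj e
    have h0 : (Ext.mk₀ (j z₀)).comp η (zero_add 2) = 0 := by
      rw [← he, ← he']
      show (Ext.mk₀ (j z₀)).comp (hS.extClass.comp ((Ext.mk₀ φ).comp e' (zero_add 1)) _) _ = 0
      rw [← Ext.comp_assoc_of_second_deg_zero hS.extClass, hnat,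
        Ext.comp_assoc _ _ _ (zero_add 1) (show 1 + 1 = 2 from rfl) (by omega),
        ← Ext.comp_assoc_of_second_deg_zero, Ext.mk₀_comp_mk₀, hjq, Ext.mk₀_zero, Ext.zero_comp]
    apply hηz
    let r : Ext.{u} (ClSub.quotMod (setI Z hZc)) M 2 →+ Ext.{u} (ptQ z (hZ z hzm)) M 2 :=
      AddMonoidHom.mk' (fun x => (Ext.mk₀ (j z₀)).comp x (zero_add 2)) fun x y => Ext.comp_add _ _ _ _
    change r η = 0 at h0
    rw [map_sub, map_sum, Finset.sum_eq_zero (fun y hy => ?_), sub_zero] at h0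
    · rw [← h0]
      show ηz = (Ext.mk₀ (j z₀)).comp ((Ext.mk₀ (p z₀)).comp ηz (zero_add 2)) (zero_add 2)
      rw [← Ext.comp_assoc_of_second_deg_zero, Ext.mk₀_comp_mk₀, hjp z₀, Ext.mk₀_id_comp]
    · show (Ext.mk₀ (j z₀)).comp ((Ext.mk₀ (p y)).comp (a y) (zero_add 2)) (zero_add 2) = 0
      rw [← Ext.comp_assoc_of_second_deg_zero, Ext.mk₀_comp_mk₀,
        hj0 z₀ y (Finset.ne_of_mem_erase hy).symm, Ext.mk₀_zero, Ext.zero_comp]

include hdim hH hω hM hW θ hZ in
/-- Locally free extensions exist exactly under the Cayley–Bacharach condition. -/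
theorem exists_flf_extension_iff_cb :
    (∃ (F : X.Modules) (a : M ⟶ F) (b : F ⟶ ClSub.idealMod (setI Z hZc)) (w : a ≫ b = 0),
        (ShortComplex.mk a b w).ShortExact ∧ FlatMod.IsFinLocFree F) ↔
      ∀ z ∈ Z, ∀ s : Coh.structureModule X ⟶ W,
        (∀ z' ∈ Z, z' ≠ z → z' ∈ (PicF2.zeroScheme W s).support) → z ∈ (PicF2.zeroScheme W s).support := by
  classical
  haveI : HasExt.{u} X.Modules := inferInstance
  rw [ExtStab.exists_flf_extension_iff k hdim hM Z hZc hZ]
  have hc : ∀ Z' : Finset X, Z' ⊆ Z → IsClosed (Z' : Set X) := fun Z' hs => by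
    rw [← Set.biUnion_of_singleton (Z' : Set X)]
    exact Z'.finite_toSet.isClosed_biUnion fun y hy => hZ y (hs hy)
  haveI : ∀ J : X.IdealSheafData, Mono (ClSub.idealModι J) := fun J => inferInstanceAs (Mono (kernel.ι _))
  constructor
  · intro h z hz
    have hle : setI Z hZc ≤ setI (Z.erase z) (hc _ (Finset.erase_subset z Z)) :=
      Scheme.IdealSheafData.vanishingIdeal_antimono (Finset.coe_subset.2 (Finset.erase_subset z Z))
    obtain ⟨φ, hφ⟩ := ExtStab.exists_idealMod_incl hle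
    exact (not_surjective_iff k hdim hH hω hM hW θ Z hZc hZ hz _ φ hφ).1
      (h _ _ (Finset.erase_ssubset hz) φ hφ)
  · intro h Z' hZ'c hlt φ hφ hs
    obtain ⟨z, hz, hz'⟩ := Finset.exists_of_ssubset hlt
    have hc' := hc _ (Finset.erase_subset z Z)
    have hle : setI Z hZc ≤ setI (Z.erase z) hc' :=
      Scheme.IdealSheafData.vanishingIdeal_antimono (Finset.coe_subset.2 (Finset.erase_subset z Z))
    have hsub : Z' ⊆ Z.erase z := fun x hx => Finset.mem_erase.2 ⟨fun e => hz' (e ▸ hx), hlt.1 hx⟩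
    have hle' : setI (Z.erase z) hc' ≤ setI Z' hZ'c :=
      Scheme.IdealSheafData.vanishingIdeal_antimono (Finset.coe_subset.2 hsub)
    obtain ⟨φ₁, hφ₁⟩ := ExtStab.exists_idealMod_incl hle
    obtain ⟨φ₂, hφ₂⟩ := ExtStab.exists_idealMod_incl hle'
    refine (not_surjective_iff k hdim hH hω hM hW θ Z hZc hZ hz hc' φ₁ hφ₁).2 (h z hz) fun e => ?_
    obtain ⟨e', rfl⟩ := hs e
    refine ⟨(Ext.mk₀ φ₂).comp e' (zero_add 1), ?_⟩
    show (Ext.mk₀ φ₁).comp _ (zero_add 1) = (Ext.mk₀ φ).comp e' (zero_add 1)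
    rw [← Ext.comp_assoc_of_second_deg_zero, Ext.mk₀_comp_mk₀,
      show φ₁ ≫ φ₂ = φ from (cancel_mono (ClSub.idealModι _)).1 (by rw [Category.assoc, hφ₂, hφ₁, hφ])]

end Groth.Agent.CBLib
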