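import Groth.Agent.CBLib.Point
import Groth.Agent.LefAmpleLib.QuotMap
import Groth.Agent.ExtStabLib.ReducedExt

/-!
# The module of functions on finitely many closed points
-/

set_option autoImplicit false
set_option backward.isDefEq.respectTransparency false
set_option linter.style.haveILetI false
set_option maxHeartbeats 1000000
set_option synthInstance.maxHeartbeats 200000

universe u

open CategoryTheory CategoryTheory.Limits AlgebraicGeometry TopologicalSpace
open Groth.Agent.PullbackMod Groth.Agent.DCohLib Groth.Agent.CurveLib Groth.Agent.ParaFLib Groth.Agent.H1ZeroLib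

noncomputable section

namespace Groth.Agent.CBLib

variable (k : Type u) [Field k] [IsAlgClosed k] {X : Scheme.{u}} [X.Over (Spec (CommRingCat.of k))]
  [IsProper (X ↘ Spec (CommRingCat.of k))]

/-- The ideal of a finite closed set. -/
abbrev setI (Z : Finset X) (hZc : IsClosed (Z : Set X)) : X.IdealSheafData :=
  Scheme.IdealSheafData.vanishingIdeal ⟨(Z : Set X), hZc⟩

/-- Restriction of functions to a smaller closed set. -/
abbrev resMap {I J : X.IdealSheafData} (h : I ≤ J) : ClSub.quotMod I ⟶ ClSub.quotMod J := Lef.quotMap h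

omit [IsAlgClosed k] [IsProper (X ↘ Spec (CommRingCat.of k))] [X.Over (Spec (CommRingCat.of k))] in
theorem setI_le_pt {Z : Finset X} (hZc : IsClosed (Z : Set X)) {y : X} (hy : IsClosed ({y} : Set X)) (h : y ∈ Z) :
    setI Z hZc ≤ ptI y hy :=
  Scheme.IdealSheafData.vanishingIdeal_antimono (show ({y} : Set X) ⊆ Z from Set.singleton_subset_iff.2 h)

include k in
/-- The functions on finitely many points split into the skyscrapers. -/
theorem exists_split {Z : Finset X} (hZc : IsClosed (Z : Set X)) (hZ : ∀ y ∈ Z, IsClosed ({y} : Set X)) :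
    ∃ j : ∀ y : Z, ptQ (y : X) (hZ y y.2) ⟶ ClSub.quotMod (setI Z hZc),
      (∀ y : Z, j y ≫ resMap (setI_le_pt hZc (hZ y y.2) y.2) = 𝟙 _) ∧
      (∀ y y' : Z, y ≠ y' → j y ≫ resMap (setI_le_pt hZc (hZ y' y'.2) y'.2) = 0) ∧
      (∑ y : Z, resMap (setI_le_pt hZc (hZ y y.2) y.2) ≫ j y = 𝟙 _) := by
  classical
  haveI := EulerIneqLib.isNoetherian_proper (X := X) k
  let F := ClSub.quotMod (setI Z hZc)
  have hd : topologicalKrullDim (Z : Set X) ≤ 0 := ExtStab.dim_le_zero_of_finite_closed k hZc Z.finite_toSet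
  have hsupp : CohB1.support F ⊆ (Z : Set X) := by
    refine (IntLib.support_quotMod_subset (setI Z hZc)).trans ?_
    rw [Scheme.IdealSheafData.coe_support_vanishingIdeal]
    exact subset_rfl
  have hoff : ∀ x : X, x ∉ (Z : Set X) → Subsingleton (F.presheaf.stalk x) := fun x hx =>
    not_not.1 fun h => hx (hsupp h)
  let σ : Γ(F, ⊤) := AmpleLib.sec (ClSub.toSubscheme (setI Z hZc))
  have hex : ∀ y : Z, ∃ s : Γ(F, ⊤), F.presheaf.germ ⊤ (y : X) trivial s = F.presheaf.germ ⊤ (y : X) trivial σ ∧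
      ∀ x, x ≠ (y : X) → F.presheaf.germ ⊤ x trivial s = 0 := fun y => exists_global_germ' hZc hd F hsupp y.1 _
  choose s hs hs0 using hex
  have hsum : (∑ y : Z, s y) = σ := by
    refine TopCat.Presheaf.section_ext (⟨F.presheaf, F.isSheaf⟩ : TopCat.Sheaf Ab X) ⊤ _ _ fun x hx => ?_
    change F.presheaf.germ ⊤ x trivial (∑ y : Z, s y) = F.presheaf.germ ⊤ x trivial σ
    rw [map_sum]
    by_cases hxZ : x ∈ Z
    · rw [Finset.sum_eq_single (⟨x, hxZ⟩ : Z) (fun y _ hy => hs0 y x fun h => hy (Subtype.ext h.symm))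
        (fun h => absurd (Finset.mem_univ _) h)]
      exact hs ⟨x, hxZ⟩
    · haveI := hoff x hxZ
      exact Subsingleton.elim _ _
  have hσ : ∀ x : X, F.presheaf.germ ⊤ x trivial σ = stalkLin (ClSub.toSubscheme (setI Z hZc)) x (oneG x) :=
    fun x => (stalkLin_germ (ClSub.toSubscheme (setI Z hZc)) (U := ⊤) x trivial
      (show Γ(Coh.structureModule X, ⊤) from (1 : Γ(X, ⊤)))).symm
  have hm : ∀ y : Z, ∀ r ∈ IsLocalRing.maximalIdeal (X.presheaf.stalk (y : X)),
      r • stalkLin (DCohLib.secHom F (s y)) (y : X) (oneG (y : X)) = 0 := fun y r hr => by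
    rw [stalkLin_secHom, hs, hσ, ← map_smul]
    refine (qv_eq_zero_iff (setI Z hZc) (y : X) r).2 ?_
    have hopen : IsClosed ((Z.erase y : Finset X) : Set X) := by
      rw [← Set.biUnion_of_singleton ((Z.erase y : Finset X) : Set X)]
      exact (Z.erase y).finite_toSet.isClosed_biUnion fun x hx => hZ x (Finset.mem_of_mem_erase hx)
    exact stalkIdeal_setI k hZc (hZ y y.2) y.2 hopen hr
  have hfac : ∀ y : Z, ∃ u : ptQ (y : X) (hZ y y.2) ⟶ F, ptπ (y : X) (hZ y y.2) ≫ u = DCohLib.secHom F (s y) :=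
    fun y => exists_factor' k (hZ y y.2) _ (fun x hx => by rw [stalkLin_secHom, hs0 y x hx]) (hm y)
  choose j hj using hfac
  have hres : ∀ y y' : Z, ptπ (y : X) (hZ y y.2) ≫ j y ≫ resMap (setI_le_pt hZc (hZ y' y'.2) y'.2) =
      DCohLib.secHom F (s y) ≫ resMap (setI_le_pt hZc (hZ y' y'.2) y'.2) := fun y y' => by
    rw [← Category.assoc, hj]
  have hval : ∀ (y' : Z) (x : X), stalkLin (resMap (setI_le_pt hZc (hZ y' y'.2) y'.2)) x
      (F.presheaf.germ ⊤ x trivial σ) = stalkLin (ptπ (y' : X) (hZ y' y'.2)) x (oneG x) := fun y' x => by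
    rw [hσ, ← LinearMap.comp_apply, ← stalkLin_comp, LefAmpleLib.toSubscheme_quotMap]
  haveI : ∀ y : Z, Epi (ptπ (y : X) (hZ y y.2)) := fun y => HilbObsLib.epi_toSubscheme _
  refine ⟨j, fun y => ?_, fun y y' hy => ?_, ?_⟩
  · rw [← cancel_epi (ptπ (y : X) (hZ y y.2)), hres, Category.comp_id]
    refine hom_ext_stalk fun x => LinearMap.ext fun v => ?_
    obtain ⟨a, rfl⟩ := (bijective_oneG x).2 v
    show stalkLin _ x (a • oneG x) = stalkLin _ x (a • oneG x)
    rw [map_smul, map_smul, stalkLin_comp, LinearMap.comp_apply, stalkLin_secHom]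
    refine congrArg (a • ·) ?_
    by_cases hx : x = (y : X)
    · subst hx
      rw [hs, hval]
    · haveI := subsingleton_ptQ k (hZ y y.2) hx
      exact Subsingleton.elim _ _
  · rw [← cancel_epi (ptπ (y : X) (hZ y y.2)), hres, comp_zero]
    refine hom_ext_stalk fun x => LinearMap.ext fun v => ?_
    obtain ⟨a, rfl⟩ := (bijective_oneG x).2 v
    show stalkLin _ x (a • oneG x) = stalkLin _ x (a • oneG x)
    rw [map_smul, DevLib.stalkLin_zero, LinearMap.zero_apply, stalkLin_comp, LinearMap.comp_apply, stalkLin_secHom]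
    by_cases hx : x = (y : X)
    · subst hx
      haveI := subsingleton_ptQ k (hZ y' y'.2) (y := (y : X)) fun h => hy (Subtype.ext h)
      exact Subsingleton.elim _ _
    · rw [hs0 y x hx, map_zero, smul_zero]
  · haveI : Epi (ClSub.toSubscheme (setI Z hZc)) := HilbObsLib.epi_toSubscheme _
    rw [← cancel_epi (ClSub.toSubscheme (setI Z hZc)), Category.comp_id, Preadditive.comp_sum]
    rw [Finset.sum_congr rfl fun (y : Z) _ => show ClSub.toSubscheme (setI Z hZc) ≫
      resMap (setI_le_pt hZc (hZ y y.2) y.2) ≫ j y = DCohLib.secHom F (s y) by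
        rw [← Category.assoc, LefAmpleLib.toSubscheme_quotMap, hj]]
    refine DCohLib.hom_unit_ext ?_
    have hadd : ∀ T : Finset Z, AmpleLib.sec (∑ y ∈ T, DCohLib.secHom F (s y)) = ∑ y ∈ T, s y := fun T => by
      induction T using Finset.induction with
      | empty => simp only [Finset.sum_empty]; rfl
      | insert a T ha ih =>
        rw [Finset.sum_insert ha, Finset.sum_insert ha, ← ih]
        show (DCohLib.secHom F (s a) + _).app ⊤ (1 : Γ(X, ⊤)) = _
        rw [Scheme.Modules.Hom.add_app]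
        exact congrArg₂ (· + ·) (AmpleLib.sec_secHom (s a)) rfl
    exact (hadd Finset.univ).trans hsum

end Groth.Agent.CBLib
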