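import Groth.Agent.CBLib.Trace
import Groth.Agent.CBLib.Pts

/-!
# The pairing of sections with residues at points
-/

set_option autoImplicit false
set_option backward.isDefEq.respectTransparency false
set_option linter.style.haveILetI false
set_option maxHeartbeats 1000000
set_option synthInstance.maxHeartbeats 200000

universe u

open CategoryTheory CategoryTheory.Limits CategoryTheory.Abelian AlgebraicGeometry TopologicalSpace
open Groth.Agent.PullbackMod Groth.Agent.DCohLib Groth.Agent.CurveLib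

noncomputable section

namespace Groth.Agent.CBLib

variable (k : Type u) [Field k] {X : Scheme.{u}} [X.Over (Spec (CommRingCat.of k))] [HasExt.{u} X.Modules]

theorem chi_smul (M : X.Modules) (n : ℕ) (c : k) (x : Ext.{u} (Coh.structureModule X) M n) :
    c • chi M n x = chi M n (x.comp (Ext.mk₀ (VBLib.cst k M c : M ⟶ M)) (add_zero n)) := by
  rw [chi_natural, show (SheafOfModules.toSheaf X.ringCatSheaf).map (VBLib.cst k M c : M ⟶ M) = _ from
    VBLib.toSheaf_cst k M c]
  rfl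

omit [X.Over (Spec (CommRingCat.of k))] in
theorem comp_regroup {A B C D E : X.Modules} {n : ℕ} (a : Ext.{u} A B 0) (b : Ext.{u} B C n)
    (c : Ext.{u} C D 0) (d : Ext.{u} D E 0) :
    (a.comp b (zero_add n)).comp (c.comp d (zero_add 0)) (add_zero n) =
      a.comp ((b.comp c (add_zero n)).comp d (add_zero n)) (zero_add n) := by
  rw [Ext.comp_assoc_of_third_deg_zero b c d, Ext.comp_assoc_of_third_deg_zero]

/-- The classes supported at a point. -/
def residues (M : X.Modules) {y : X} (hy : IsClosed ({y} : Set X)) : Submodule k (Coh.HH X M 2) where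
  carrier := Set.range fun η : Ext.{u} (ptQ y hy) M 2 => chi M 2 ((Ext.mk₀ (ptπ y hy)).comp η (zero_add 2))
  add_mem' := by
    rintro _ _ ⟨η, rfl⟩ ⟨η', rfl⟩
    exact ⟨η + η', by simp only [Ext.comp_add, map_add]⟩
  zero_mem' := ⟨0, by simp only [Ext.comp_zero, map_zero]⟩
  smul_mem' := by
    rintro c _ ⟨η, rfl⟩
    refine ⟨η.comp (Ext.mk₀ (VBLib.cst k M c : M ⟶ M)) (add_zero 2), ?_⟩
    simp only [chi_smul, Ext.comp_assoc_of_third_deg_zero]

/-- The functional on the top cohomology given by a section of the complementary module. -/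
def ev {M W ω : X.Modules} (θ : (CurveLib.tensR W).obj M ≅ ω) (t : Coh.HH X ω 2 →ₗ[k] k)
    (s : Coh.structureModule X ⟶ W) : Coh.HH X M 2 →ₗ[k] k :=
  t.comp (CurveLib.hMap (k := k) ((secTw s).app M ≫ θ.hom) 2)

theorem ev_chi {M W ω : X.Modules} (θ : (CurveLib.tensR W).obj M ≅ ω) (t : Coh.HH X ω 2 →ₗ[k] k)
    (s : Coh.structureModule X ⟶ W) [PreservesFiniteLimits (CurveLib.tensR W)]
    {y : X} (hy : IsClosed ({y} : Set X)) (η : Ext.{u} (ptQ y hy) M 2) :
    ev k θ t s (chi M 2 ((Ext.mk₀ (ptπ y hy)).comp η (zero_add 2))) =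
      t (chi ω 2 ((Ext.mk₀ (ptπ y hy)).comp
        (((Ext.mk₀ ((secTw s).app (ptQ y hy))).comp (η.mapExactFunctor (CurveLib.tensR W)) (zero_add 2)).comp
          (Ext.mk₀ θ.hom) (add_zero 2)) (zero_add 2))) := by
  rw [← ext_slide (secTw s) η]
  show t (Sheaf.H.map ((SheafOfModules.toSheaf X.ringCatSheaf).map ((secTw s).app M ≫ θ.hom)) 2 _) = _
  refine (congrArg t (chi_natural ((secTw s).app M ≫ θ.hom) 2
    ((Ext.mk₀ (ptπ y hy)).comp η (zero_add 2))).symm).trans ?_
  rw [← Ext.mk₀_comp_mk₀]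
  refine congrArg (fun q => t (chi ω 2 q)) ?_
  exact comp_regroup (A := Coh.structureModule X) (B := ptQ y hy) (C := M) (D := (CurveLib.tensR W).obj M) (E := ω)
    (Ext.mk₀ (ptπ y hy)) η (Ext.mk₀ ((secTw s).app M)) (Ext.mk₀ θ.hom)

variable [IsAlgClosed k] [IsProper (X ↘ Spec (CommRingCat.of k))] [Smooth (X ↘ Spec (CommRingCat.of k))] [IsIntegral X]
  (hdim : topologicalKrullDim X = 2) {H : X.Modules} (hH : CohB1.IsAmple H)
  {ω : X.Modules} (hω : ExtPow.IsExtPow 2 (Omega.sheaf (X ↘ Spec (CommRingCat.of k))) ω)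

omit [HasExt.{u} X.Modules] in
include hdim hH hω in
theorem injective_trace {t : Coh.HH X ω 2 →ₗ[k] k}
    (ht : ∀ F : X.Modules, Coh.IsCoh F → ∀ ψ : Coh.HH X F 2 →ₗ[k] k, ∃! φ : F ⟶ ω, ∀ x : Coh.HH X F 2,
      ψ x = t (Sheaf.H.map ((SheafOfModules.toSheaf X.ringCatSheaf).map φ) 2 x)) : Function.Injective t := by
  haveI := EulerIneqLib.isNoetherian_proper (X := X) k
  have hωi := (exists_trace k hdim hH hω).1
  haveI := TwistShriek.smoothOfRelativeDimension_of_smooth (X ↘ Spec (CommRingCat.of k)) (d := 2)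
    (by exact_mod_cast hdim)
  obtain ⟨r, ι, hι0, hι⟩ := TwistShriek.exists_closedImmersion_of_ample (X ↘ Spec (CommRingCat.of k)) hH
  haveI := hι0
  have h1 := FundLocIsoLib.finrank_top_topForms (n := 2) ι hι hω
  have ht0 : t ≠ 0 := fun h0 => by
    have hid : (𝟙 ω : ω ⟶ ω) = 0 :=
      (ht ω (CurveLib.isCoh_of_isInvertible hωi) 0).unique (fun x => by rw [h0]; rfl) (fun x => by rw [h0]; rfl)
    obtain ⟨e, he⟩ := ParaFLib.exists_stalk_gen hωi (genericPoint X)
    have he0 : e = 0 := by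
      rw [← LinearMap.id_apply (R := X.presheaf.stalk (genericPoint X)) e, ← stalkLin_id, hid, DevLib.stalkLin_zero]
      rfl
    exact one_ne_zero (he.1 (show (1 : X.presheaf.stalk (genericPoint X)) • e = (0 : X.presheaf.stalk (genericPoint X)) • e
      by rw [he0, smul_zero, smul_zero]))
  refine (injective_iff_map_eq_zero t).2 fun v hv => by_contra fun hv0 => ht0 (LinearMap.ext fun w => ?_)
  obtain ⟨c, rfl⟩ := (finrank_eq_one_iff_of_nonzero' v hv0).1 h1 w
  rw [map_smul, hv, smul_zero]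
  rfl

/-- A section vanishing at a point annihilates its residues. -/
theorem ev_eq_zero {M W : X.Modules} (hW : PicF.IsInvertible W) (θ : (CurveLib.tensR W).obj M ≅ ω)
    (t : Coh.HH X ω 2 →ₗ[k] k) {y : X} (hy : IsClosed ({y} : Set X))
    (s : Coh.structureModule X ⟶ W) (hs : y ∈ (PicF2.zeroScheme W s).support)
    {v : Coh.HH X M 2} (hv : v ∈ residues k M hy) : ev k θ t s v = 0 := by
  obtain ⟨η, rfl⟩ := hv
  haveI := (exact_tw hW).1
  rw [ev_chi, (secTw_pt_eq_zero_iff k hy hW s).2 hs, Ext.mk₀_zero, Ext.zero_comp, Ext.zero_comp, Ext.comp_zero,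
    map_zero, map_zero]

include hdim hH hω in
/-- A section nonzero at a point detects its residues. -/
theorem ev_ne_zero {M W : X.Modules} (hW : PicF.IsInvertible W) (θ : (CurveLib.tensR W).obj M ≅ ω)
    {t : Coh.HH X ω 2 →ₗ[k] k}
    (ht : ∀ F : X.Modules, Coh.IsCoh F → ∀ ψ : Coh.HH X F 2 →ₗ[k] k, ∃! φ : F ⟶ ω, ∀ x : Coh.HH X F 2,
      ψ x = t (Sheaf.H.map ((SheafOfModules.toSheaf X.ringCatSheaf).map φ) 2 x))
    {y : X} (hy : IsClosed ({y} : Set X)) (s : Coh.structureModule X ⟶ W)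
    (hs : y ∉ (PicF2.zeroScheme W s).support) {η : Ext.{u} (ptQ y hy) M 2} (hη : η ≠ 0) :
    ev k θ t s (chi M 2 ((Ext.mk₀ (ptπ y hy)).comp η (zero_add 2))) ≠ 0 := by
  haveI := EulerIneqLib.isNoetherian_proper (X := X) k
  haveI := (exact_tw hW).1
  haveI := isIso_secTw_pt k hy hW s hs
  obtain ⟨W', hW', ⟨d⟩⟩ := AmpleEmb.exists_isInverseOf hW
  intro h
  rw [ev_chi] at h
  have h' := residue_injective k hdim hH hω hy
    ((chi ω 2).map_eq_zero_iff.1 ((injective_iff_map_eq_zero t).1 (injective_trace k hdim hH hω ht) _ h))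
  exact hη (eq_zero_of_tw hW hW' d (eq_zero_of_iso_comp _ (eq_zero_of_comp_iso _ h')))

include hdim hH hω in
/-- There are residues at each point with values in any invertible module. -/
theorem exists_ne_zero {M : X.Modules} (hM : PicF.IsInvertible M) {y : X} (hy : IsClosed ({y} : Set X)) :
    ∃ η : Ext.{u} (ptQ y hy) M 2, η ≠ 0 := by
  haveI := EulerIneqLib.isNoetherian_proper (X := X) k
  obtain ⟨η, hη⟩ := exists_residue_ne_zero k hdim hH hω hy
  have hωi := (exists_trace k hdim hH hω).1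
  obtain ⟨ω', hω', ⟨dω⟩⟩ := AmpleEmb.exists_isInverseOf hωi
  obtain ⟨M', hM', ⟨dM⟩⟩ := AmpleEmb.exists_isInverseOf hM
  have hW : PicF.IsInvertible (CohB1.tensorMod ω' M) := AmpleLib.isInvertible_tensor hω' hM
  haveI := (exact_tw hW).1
  obtain ⟨W', hW', ⟨d⟩⟩ := AmpleEmb.exists_isInverseOf hW
  obtain ⟨i⟩ := nonempty_iso_tw k hy hW
  let j : CohB1.tensorMod ω (CohB1.tensorMod ω' M) ≅ M :=
    (AmpleLib.assoc ω ω' M).symm ≪≫ AmpleLib.tIso dω (Iso.refl M) ≪≫ CurveLib.tmodUnit M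
  refine ⟨((Ext.mk₀ i.hom).comp (η.mapExactFunctor (CurveLib.tensR (CohB1.tensorMod ω' M))) (zero_add 2)).comp
    (Ext.mk₀ j.hom) (add_zero 2), fun h => hη ?_⟩
  rw [eq_zero_of_tw hW hW' d (eq_zero_of_iso_comp _ (eq_zero_of_comp_iso _ h)), Ext.comp_zero]

end Groth.Agent.CBLib
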