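import Groth.Agent.PointTwistLib.Basic
import Groth.Agent.BoundaryConn.Main
import Groth.Agent.VBLib.Cst
import Groth.Agent.VBLib.Twist
import Groth.Agent.HilbLib.Basic
import Groth.Agent.KRRAmple.Basic
import Groth.Agent.TwistShriek.CartierSES
import Groth.Agent.IdealMulLib.Basic

/-!
# The skyscraper module of a rational point under twisting
-/

set_option autoImplicit false
set_option backward.isDefEq.respectTransparency false
set_option linter.style.haveILetI false
set_option maxHeartbeats 1000000
set_option synthInstance.maxHeartbeats 200000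

universe u

open CategoryTheory CategoryTheory.Limits AlgebraicGeometry TopologicalSpace
open Groth.Agent.PullbackMod Groth.Agent.DCohLib Groth.Agent.CurveLib Groth.Agent.ParaFLib Groth.Agent.H1ZeroLib

noncomputable section

namespace Groth.Agent.CBLib

variable {X : Scheme.{u}}

/-- The ideal of a closed point. -/
abbrev ptI (z : X) (hz : IsClosed ({z} : Set X)) : X.IdealSheafData :=
  Scheme.IdealSheafData.vanishingIdeal ⟨{z}, hz⟩

/-- The skyscraper module of a closed point. -/
abbrev ptQ (z : X) (hz : IsClosed ({z} : Set X)) : X.Modules := ClSub.quotMod (ptI z hz)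

/-- Evaluation at a closed point. -/
abbrev ptπ (z : X) (hz : IsClosed ({z} : Set X)) : Coh.structureModule X ⟶ ptQ z hz :=
  ClSub.toSubscheme (ptI z hz)

/-- The natural map from the identity to twisting by `W` given by a section of `W`. -/
def secTw {W : X.Modules} (s : Coh.structureModule X ⟶ W) : 𝟭 X.Modules ⟶ CurveLib.tensR W :=
  (ModTensor.tensorUnitRight X.sheaf).inv ≫ (DCoh.tensorBi (X := X)).flip.map s

theorem secTw_app {W : X.Modules} (s : Coh.structureModule X ⟶ W) (A : X.Modules) :
    (secTw s).app A = ((ModTensor.tensorUnitRight X.sheaf).app A).inv ≫ ((DCoh.tensorBi (X := X)).flip.map s).app A :=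
  rfl

/-- Twisting by a section is multiplication by its coordinate on stalks. -/
theorem exists_stalk_secTw {W : X.Modules} (hW : PicF.IsInvertible W) (s : Coh.structureModule X ⟶ W)
    (M : X.Modules) (x : X) :
    ∃ (e : W.presheaf.stalk x) (a : X.presheaf.stalk x)
      (φ : ((CurveLib.tensR W).obj M).presheaf.stalk x ≃ₗ[X.presheaf.stalk x] M.presheaf.stalk x),
      Function.Bijective (fun r : X.presheaf.stalk x => r • e) ∧ stalkLin s x (oneG x) = a • e ∧
      ∀ m, φ (stalkLin ((secTw s).app M) x m) = a • m := by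
  obtain ⟨e, he⟩ := exists_stalk_gen hW x
  obtain ⟨a, ha⟩ := he.2 (stalkLin s x (oneG x))
  let eW := LinearEquiv.ofBijective (LinearMap.toSpanSingleton (X.presheaf.stalk x) (W.presheaf.stalk x) e) he
  refine ⟨e, a, (stalkTensor x M W).symm ≪≫ₗ TensorProduct.congr (LinearEquiv.refl _ _) eW.symm ≪≫ₗ
    TensorProduct.rid (X.presheaf.stalk x) (M.presheaf.stalk x), he, ha.symm, fun m => ?_⟩
  let u := (ModTensor.tensorUnitRight X.sheaf).app M
  have h1 : stalkLin u.inv x m = stalkTensor x M (Coh.structureModule X) (TensorProduct.tmul _ m (oneG x)) :=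
    (TwistShriek.stalkLin_runit_bijective M x).1
      ((TwistShriek.stalkLin_inv_apply u x m).trans (LocFreeHomLib.runitMap_stalk M x m).symm)
  have h2 : stalkLin ((secTw s).app M) x m = stalkTensor x M W (TensorProduct.tmul _ m (a • e)) := by
    show stalkLin (u.inv ≫ ((DCoh.tensorBi (X := X)).obj M).map s) x m = _
    rw [stalkLin_comp, LinearMap.comp_apply, h1]
    refine (stalkTensor_natural_right x s (TensorProduct.tmul (X.presheaf.stalk x) m (oneG x))).trans ?_
    rw [LinearMap.lTensor_tmul]
    exact congrArg (fun t => stalkTensor x M W (TensorProduct.tmul _ m t)) ha.symm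
  have h3 : eW.symm (a • e) = a := (LinearEquiv.symm_apply_eq eW).2 rfl
  rw [h2]
  show TensorProduct.rid (X.presheaf.stalk x) (M.presheaf.stalk x)
    (TensorProduct.congr (LinearEquiv.refl _ _) eW.symm ((stalkTensor x M W).symm (stalkTensor x M W _))) = _
  rw [LinearEquiv.symm_apply_apply, TensorProduct.congr_tmul, TensorProduct.rid_tmul, h3]
  rfl

variable (k : Type u) [Field k] [IsAlgClosed k] [X.Over (Spec (CommRingCat.of k))]
  [IsProper (X ↘ Spec (CommRingCat.of k))]

variable {z : X} (hz : IsClosed ({z} : Set X))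

include k in
theorem subsingleton_ptQ {y : X} (hy : y ≠ z) : Subsingleton ((ptQ z hz).presheaf.stalk y) := by
  haveI := EulerIneqLib.isNoetherian_proper (X := X) k
  have h := (CliffCurveLib.stalkIdeal_point hz).2 y hy
  refine subsingleton_of_forall_eq 0 fun v => ?_
  obtain ⟨r, rfl⟩ := qv_surjective _ y v
  exact (qv_eq_zero_iff _ y r).2 (show r ∈ IntMult.stalkIdeal (ptI z hz) y from
    (show IntMult.stalkIdeal (ptI z hz) y = ⊤ from h).symm ▸ Submodule.mem_top)

include k in
theorem qv_pt_zero (r : X.presheaf.stalk z) :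
    qv (ptI z hz) z r = 0 ↔ r ∈ IsLocalRing.maximalIdeal (X.presheaf.stalk z) := by
  haveI := EulerIneqLib.isNoetherian_proper (X := X) k
  rw [qv_eq_zero_iff]
  exact iff_of_eq (congrArg (r ∈ ·) (CliffCurveLib.stalkIdeal_point hz).1)

include k in
/-- A map out of the structure module killing the ideal of a point factors. -/
theorem exists_factor' {F : X.Modules} (x : Coh.structureModule X ⟶ F)
    (h0 : ∀ y, y ≠ z → stalkLin x y (oneG y) = 0)
    (h1 : ∀ r ∈ IsLocalRing.maximalIdeal (X.presheaf.stalk z), r • stalkLin x z (oneG z) = 0) :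
    ∃ u : ptQ z hz ⟶ F, ptπ z hz ≫ u = x := by
  haveI := EulerIneqLib.isNoetherian_proper (X := X) k
  haveI : Epi (ptπ z hz) := HilbObsLib.epi_toSubscheme _
  refine ⟨(Abelian.epiIsCokernelOfKernel _ (kernelIsKernel (ptπ z hz))).desc (CokernelCofork.ofπ x ?_),
    (Abelian.epiIsCokernelOfKernel _ (kernelIsKernel (ptπ z hz))).fac _ WalkingParallelPair.one⟩
  refine (eq_zero_iff_stalk _).2 fun y => LinearMap.ext fun m => ?_
  show stalkLin (kernel.ι (ptπ z hz) ≫ x) y m = 0
  rw [stalkLin_comp, LinearMap.comp_apply]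
  by_cases hy : y = z
  · subst hy
    obtain ⟨r, hr⟩ := (bijective_oneG y).2 (stalkLin (kernel.ι (ptπ y hz)) y m)
    change r • oneG y = _ at hr
    have hm : qv (ptI y hz) y r = 0 := by
      show stalkLin (ptπ y hz) y (r • oneG y) = 0
      rw [hr, ← LinearMap.comp_apply, ← stalkLin_comp, kernel.condition, DevLib.stalkLin_zero]
      rfl
    rw [← hr, map_smul]
    exact h1 r ((qv_pt_zero k hz r).1 hm)
  · obtain ⟨r, hr⟩ := (bijective_oneG y).2 (stalkLin (kernel.ι (ptπ z hz)) y m)
    change r • oneG y = _ at hr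
    rw [← hr, map_smul, h0 y hy, smul_zero]

include k in
theorem exists_factor {F : X.Modules} (x : Coh.structureModule X ⟶ F)
    (h0 : ∀ y, y ≠ z → Subsingleton (F.presheaf.stalk y))
    (h1 : ∀ r ∈ IsLocalRing.maximalIdeal (X.presheaf.stalk z), r • stalkLin x z (oneG z) = 0) :
    ∃ u : ptQ z hz ⟶ F, ptπ z hz ≫ u = x :=
  exists_factor' k hz x (fun y hy => haveI := h0 y hy; Subsingleton.elim _ _) h1

include k in
/-- The stalk at a point of the ideal of finitely many points contains the maximal ideal. -/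
theorem stalkIdeal_setI {Z : Finset X} (hZc : IsClosed (Z : Set X)) (hy : IsClosed ({z} : Set X)) (hmem : z ∈ Z)
    [DecidableEq X] (hrest : IsClosed ((Z.erase z : Finset X) : Set X)) :
    IsLocalRing.maximalIdeal (X.presheaf.stalk z) ≤
      IntMult.stalkIdeal (Scheme.IdealSheafData.vanishingIdeal ⟨(Z : Set X), hZc⟩) z := by
  haveI := EulerIneqLib.isNoetherian_proper (X := X) k
  let J := Scheme.IdealSheafData.vanishingIdeal (X := X) ⟨((Z.erase z : Finset X) : Set X), hrest⟩
  let I := Scheme.IdealSheafData.vanishingIdeal (X := X) ⟨(Z : Set X), hZc⟩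
  have hle : J * ptI z hy ≤ I := by
    refine Scheme.IdealSheafData.le_support_iff_le_vanishingIdeal.1 fun x hx => ?_
    rw [Scheme.IdealSheafData.support_mul]
    show x ∈ (J.support : Set X) ∪ ((ptI z hy).support : Set X)
    rw [Scheme.IdealSheafData.coe_support_vanishingIdeal, Scheme.IdealSheafData.coe_support_vanishingIdeal]
    by_cases h : x = z
    · exact Or.inr h
    · exact Or.inl (Finset.mem_coe.2 (Finset.mem_erase.2 ⟨h, hx⟩))
  obtain ⟨U, hU, hzU, -⟩ := exists_isAffineOpen_mem_and_subset (X := X) (x := z) (U := ⊤) trivial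
  have hJ : IntMult.stalkIdeal J z = ⊤ := IdealMulLib.stalkIdeal_eq_top J fun h => by
    rw [← SetLike.mem_coe, Scheme.IdealSheafData.coe_support_vanishingIdeal] at h
    exact Finset.notMem_erase z Z (Finset.mem_coe.1 h)
  have hP := (CliffCurveLib.stalkIdeal_point hy).1
  change IntMult.stalkIdeal (ptI z hy) z = _ at hP
  rw [IdealStalkLib.stalkIdeal_eq J ⟨U, hU⟩ z hzU] at hJ
  rw [IdealStalkLib.stalkIdeal_eq (ptI z hy) ⟨U, hU⟩ z hzU] at hP
  rw [IdealStalkLib.stalkIdeal_eq I ⟨U, hU⟩ z hzU, ← hP]
  refine le_trans ?_ (Ideal.map_mono (hle ⟨U, hU⟩))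
  rw [Scheme.IdealSheafData.ideal_mul, Pi.mul_apply, Ideal.map_mul, hJ, Ideal.top_mul]

include k in
/-- Constants surject onto the residue field of a closed point. -/
theorem exists_const (hz : IsClosed ({z} : Set X)) (r : X.presheaf.stalk z) :
    ∃ c : k, r - Curv2.stalkMap k X z c ∈ IsLocalRing.maximalIdeal (X.presheaf.stalk z) := by
  let f := X ↘ Spec (CommRingCat.of k)
  let g : CommRingCat.of k ⟶ X.residueField z :=
    (Scheme.ΓSpecIso (CommRingCat.of k)).inv ≫ f.appTop ≫ X.presheaf.germ ⊤ z trivial ≫ X.residue z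
  have hg : Spec.map g = X.fromSpecResidueField z ≫ f := by
    refine ext_of_isAffine ?_
    rw [Scheme.fromSpecResidueField, Category.assoc, Scheme.Hom.comp_appTop, Scheme.Hom.comp_appTop,
      Scheme.fromSpecStalk_appTop]
    simp only [g, Category.assoc, Scheme.ΓSpecIso_inv_naturality]
    rw [← cancel_epi (Scheme.ΓSpecIso (CommRingCat.of k)).inv]
    simp only [← Scheme.ΓSpecIso_inv_naturality, Category.assoc]
    refine congrArg (_ ≫ ·) (congrArg (_ ≫ ·) (congrArg (_ ≫ ·) ?_))
    rw [Scheme.ΓSpecIso_inv_naturality]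
    refine congrArg (_ ≫ ·) ?_
    refine Eq.symm ((congrArg (· ≫ _) ?_).trans (Category.id_comp _))
    exact (congrArg _ (Subsingleton.elim _ _)).trans ((Spec (X.presheaf.stalk z)).presheaf.map_id _)
  have hi : (residueFieldIsoBase f z hz).inv = g :=
    Spec.map_injective ((SpecMap_residueFieldIsoBase_inv f z hz).trans hg.symm)
  haveI : IsIso g := hi ▸ inferInstance
  obtain ⟨c, hc⟩ := ((ConcreteCategory.isIso_iff_bijective g).1 inferInstance).2 (X.residue z r)
  refine ⟨c, (IsLocalRing.residue_eq_zero_iff _).1 ?_⟩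
  rw [map_sub]
  exact sub_eq_zero.2 hc.symm

include k in
/-- The germ of a constant endomorphism. -/
theorem stalkLin_cst (E : X.Modules) (c : k) (y : X) (v : E.presheaf.stalk y) :
    stalkLin (VBLib.cst k E c : E ⟶ E) y v = Curv2.stalkMap k X y c • v := by
  obtain ⟨U, hy, m, rfl⟩ := TopCat.Presheaf.exists_germ_eq E.presheaf v
  rw [stalkLin_germ, show (VBLib.cst k E c : E ⟶ E).app U m = _ from FactorOne.mulEnd_app E _ U m,
    ParaFLib.germ_smul']
  refine congrArg (fun a => a • E.presheaf.germ U y hy m) ?_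
  exact TopCat.Presheaf.germ_res_apply X.presheaf (homOfLE (le_top : U ≤ ⊤)) y hy _

include k in
/-- Sections of the skyscraper are constants. -/
theorem exists_cst_eq (x : Coh.structureModule X ⟶ ptQ z hz) :
    ∃ c : k, x = (VBLib.cst k (Coh.structureModule X) c : Coh.structureModule X ⟶ _) ≫ ptπ z hz := by
  haveI := EulerIneqLib.isNoetherian_proper (X := X) k
  obtain ⟨r, hr⟩ := qv_surjective (ptI z hz) z (stalkLin x z (oneG z))
  obtain ⟨c, hc⟩ := exists_const k hz r
  refine ⟨c, hom_ext_stalk fun y => LinearMap.ext fun v => ?_⟩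
  by_cases hy : y = z
  · subst hy
    obtain ⟨a, rfl⟩ := (bijective_oneG y).2 v
    show stalkLin x y (a • oneG y) = _
    rw [map_smul, map_smul, ← hr, stalkLin_comp, LinearMap.comp_apply, stalkLin_cst k, map_smul]
    refine congrArg (a • ·) ?_
    have h := (qv_pt_zero k hz (r - Curv2.stalkMap k X y c)).2 hc
    show qv (ptI y hz) y r = Curv2.stalkMap k X y c • stalkLin (ptπ y hz) y (oneG y)
    change stalkLin (ptπ y hz) y ((r - Curv2.stalkMap k X y c) • oneG y) = 0 at h
    rw [sub_smul, map_sub, map_smul, map_smul, sub_eq_zero] at h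
    exact (map_smul _ _ _).trans h
  · haveI := subsingleton_ptQ k hz hy
    exact Subsingleton.elim _ _

include k in
/-- A nonzero endomorphism of the skyscraper is invertible. -/
theorem isIso_of_ne_zero {u : ptQ z hz ⟶ ptQ z hz} (hu : u ≠ 0) : IsIso u := by
  haveI : Epi (ptπ z hz) := HilbObsLib.epi_toSubscheme _
  obtain ⟨c, hc⟩ := exists_cst_eq k hz (ptπ z hz ≫ u)
  have hu' : u = VBLib.cst k (ptQ z hz) c := (cancel_epi (ptπ z hz)).1 (hc.trans (VBLib.cst_natural k _ c))
  subst hu'
  exact VBLib.isIso_cst k _ fun h => hu (by rw [h, VBLib.cst_zero])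

include k in
/-- Twisting by an invertible module does not change the skyscraper. -/
theorem nonempty_iso_tw {W : X.Modules} (hW : PicF.IsInvertible W) :
    Nonempty (ptQ z hz ≅ (CurveLib.tensR W).obj (ptQ z hz)) := by
  haveI := EulerIneqLib.isNoetherian_proper (X := X) k
  let F : X.Modules := (CurveLib.tensR W).obj (ptQ z hz)
  have h0 : ∀ y, y ≠ z → Subsingleton (F.presheaf.stalk y) := fun y hy => by
    obtain ⟨e⟩ := HilbLib.nonempty_stalk_equiv hW (ptQ z hz) y
    haveI := subsingleton_ptQ k hz hy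
    exact e.toEquiv.subsingleton
  obtain ⟨e⟩ := HilbLib.nonempty_stalk_equiv hW (ptQ z hz) z
  have hsupp : CohB1.support F ⊆ ({z} : Set X) := fun y hy => by
    by_contra hne
    exact hy (h0 y hne)
  obtain ⟨s, hs, -⟩ := exists_global_germ' hz (topologicalKrullDim_zero_of_discreteTopology ({z} : Set X))
    F hsupp z (e.symm (qv (ptI z hz) z 1))
  have hsg : stalkLin (DCohLib.secHom F s) z (oneG z) = e.symm (qv (ptI z hz) z 1) :=
    (stalkLin_secHom s z).trans hs
  obtain ⟨u, hu⟩ := exists_factor k hz (DCohLib.secHom F s) h0 fun r hr => by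
    refine (congrArg (r • ·) hsg).trans ((map_smul e.symm r _).symm.trans ?_)
    rw [← qv_eq_smul, (qv_pt_zero k hz r).2 hr]
    exact map_zero _
  have hu1 : ∀ r : X.presheaf.stalk z, stalkLin u z (qv (ptI z hz) z r) = e.symm (qv (ptI z hz) z r) := fun r => by
    show stalkLin u z (stalkLin (ptπ z hz) z (r • oneG z)) = _
    rw [← LinearMap.comp_apply, ← stalkLin_comp, hu, qv_eq_smul (ptI z hz) z r]
    exact ((map_smul _ r _).trans (congrArg (r • ·) hsg)).trans (map_smul e.symm r _).symm
  haveI : IsIso u := (isIso_iff_stalk u).2 fun y => by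
    by_cases hy : y = z
    · subst hy
      refine ⟨fun a b hab => ?_, fun v => ?_⟩
      · obtain ⟨r, rfl⟩ := qv_surjective _ y a
        obtain ⟨r', rfl⟩ := qv_surjective _ y b
        rw [hu1, hu1] at hab
        exact e.symm.injective hab
      · obtain ⟨r, hr⟩ := qv_surjective (ptI y hz) y (e v)
        exact ⟨qv (ptI y hz) y r, by rw [hu1, hr, e.symm_apply_apply]⟩
    · haveI := subsingleton_ptQ k hz hy
      haveI := h0 y hy
      exact ⟨fun a b _ => Subsingleton.elim _ _, fun b => ⟨0, Subsingleton.elim _ _⟩⟩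
  exact ⟨asIso u⟩

include k in
/-- A section vanishes at a point exactly when twisting by it kills the skyscraper. -/
theorem secTw_pt_eq_zero_iff {W : X.Modules} (hW : PicF.IsInvertible W) (s : Coh.structureModule X ⟶ W) :
    (secTw s).app (ptQ z hz) = 0 ↔ z ∈ (PicF2.zeroScheme W s).support := by
  obtain ⟨e, a, φ, he, ha, hφ⟩ := exists_stalk_secTw hW s (ptQ z hz) z
  rw [← SetLike.mem_coe, BoundaryConn.support_zeroScheme hW, Set.mem_compl_iff, SetLike.mem_coe,
    AmpleLib.mem_genLocus_iff hW]
  have hg : W.presheaf.germ ⊤ z trivial (AmpleLib.sec s) = a • e := by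
    rw [← ha]
    exact (stalkLin_germ s (U := ⊤) z trivial (1 : Γ(X, ⊤))).symm
  have hbij : Function.Bijective (fun r : X.presheaf.stalk z => r • W.presheaf.germ ⊤ z trivial (AmpleLib.sec s)) ↔
      IsUnit a := by
    have hh : (fun r : X.presheaf.stalk z => r • W.presheaf.germ ⊤ z trivial (AmpleLib.sec s)) =
        (fun r => r • e) ∘ fun r => r * a := funext fun r => by rw [hg, Function.comp_apply, smul_smul]
    rw [hh, Function.Bijective.of_comp_iff' he, ← IsUnit.isUnit_iff_mulRight_bijective]
  rw [hbij, ← mem_nonunits_iff, ← IsLocalRing.mem_maximalIdeal]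
  constructor
  · intro h
    refine (qv_pt_zero k hz a).1 ?_
    rw [qv_eq_smul, ← hφ, h, DevLib.stalkLin_zero, LinearMap.zero_apply, map_zero]
  · intro h
    refine (eq_zero_iff_stalk _).2 fun y => LinearMap.ext fun m => ?_
    by_cases hy : y = z
    · subst hy
      obtain ⟨r, rfl⟩ := qv_surjective (ptI y hz) y m
      refine φ.injective ?_
      rw [hφ, LinearMap.zero_apply, map_zero, qv_eq_smul, smul_smul, ← qv_eq_smul]
      exact (qv_pt_zero k hz _).2 (Ideal.mul_mem_right r _ h)
    · haveI : Subsingleton (((𝟭 X.Modules).obj (ptQ z hz)).presheaf.stalk y) := subsingleton_ptQ k hz hy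
      rw [Subsingleton.elim m 0, map_zero, map_zero]

include k in
/-- A section nonzero at a point identifies the skyscraper with its twist. -/
theorem isIso_secTw_pt {W : X.Modules} (hW : PicF.IsInvertible W) (s : Coh.structureModule X ⟶ W)
    (hs : z ∉ (PicF2.zeroScheme W s).support) : IsIso ((secTw s).app (ptQ z hz)) := by
  obtain ⟨i⟩ := nonempty_iso_tw k hz hW
  have hne : (secTw s).app (ptQ z hz) ≫ i.inv ≠ 0 := fun h => hs ((secTw_pt_eq_zero_iff k hz hW s).1
    (by rw [← cancel_mono i.inv, h, zero_comp]))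
  haveI := isIso_of_ne_zero k hz hne
  exact IsIso.of_isIso_comp_right ((secTw s).app (ptQ z hz)) i.inv

end Groth.Agent.CBLib
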