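import Groth.Agent.CBLib.Point
import Groth.Agent.CBLib.Pts
import Groth.Agent.CurveLib.StalkDim
import Groth.Agent.ZeroSchemeLib.Basic
import Groth.Agent.SnapperCutLib.Seq
import Groth.Agent.LeffCoreLib.Field
import Groth.Agent.KoszTwLib.Gen
import Groth.Agent.DivisorialLib.Basic
import Groth.Agent.InjHullLib.Gorenstein
import Groth.Agent.LiaisonLib.AlmostCI
import Groth.Agent.IntLib.Divisor
import Groth.Agent.BoundaryConn.Main
import Groth.Agent.CurveLib.GlobalFun
import Groth.Agent.IdealMulLib.Basic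
import Mathlib.GroupTheory.CosetCover

/-!
# Evaluation ranks on a finite Gorenstein subscheme with the Cayley–Bacharach property
-/

set_option autoImplicit false
set_option backward.isDefEq.respectTransparency false
set_option linter.style.haveILetI false
set_option maxHeartbeats 1000000
set_option synthInstance.maxHeartbeats 200000

universe u

open CategoryTheory CategoryTheory.Limits AlgebraicGeometry TopologicalSpace Opposite
open Groth.Agent.PullbackMod Groth.Agent.DCohLib Groth.Agent.CohBase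
open Groth.Agent.ParaFLib (oneG bijective_oneG)
open scoped TensorProduct

noncomputable section

namespace Groth.Agent.CBLib

/-! ## Linear algebra -/

/-- Two subspaces of a finite-dimensional algebra with a nondegenerate form killing their products. -/
theorem finrank_add_finrank_le {k P : Type*} [Field k] [CommRing P] [Algebra k P] [FiniteDimensional k P]
    (A B : Submodule k P) (lam : P →ₗ[k] k) (h0 : ∀ a ∈ A, ∀ b ∈ B, lam (a * b) = 0)
    (hnd : ∀ x : P, x ≠ 0 → ∃ r, lam (r * x) ≠ 0) :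
    Module.finrank k A + Module.finrank k B ≤ Module.finrank k P := by
  let φ : B →ₗ[k] Module.Dual k P := ((LinearMap.mul k P).compr₂ lam).comp B.subtype
  have hφ : Function.Injective φ := (injective_iff_map_eq_zero φ).2 fun b hb => by
    by_contra hne
    obtain ⟨r, hr⟩ := hnd b.1 fun h => hne (Subtype.ext h)
    refine hr ?_
    rw [mul_comm]
    exact LinearMap.congr_fun hb r
  have hr : LinearMap.range φ ≤ A.dualAnnihilator := by
    rintro _ ⟨b, rfl⟩
    refine (Submodule.mem_dualAnnihilator _).2 fun a ha => ?_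
    show lam (b.1 * a) = 0
    rw [mul_comm]
    exact h0 a ha b.1 b.2
  have h1 := Submodule.finrank_mono hr
  rw [LinearMap.finrank_range_of_inj hφ] at h1
  have h2 := Subspace.finrank_add_finrank_dualAnnihilator_eq A
  omega

/-- A form vanishing on a subspace and on none of finitely many vectors outside it. -/
theorem exists_form {k P : Type*} [Field k] [Infinite k] [AddCommGroup P] [Module k P] {ι : Type*} [Fintype ι]
    (V : Submodule k P) (w : ι → P) (hw : ∀ i, w i ∉ V) :
    ∃ lam : Module.Dual k P, (∀ v ∈ V, lam v = 0) ∧ ∀ i, lam (w i) ≠ 0 := by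
  classical
  let p : ι → Subspace k V.dualAnnihilator := fun i =>
    LinearMap.ker ((Module.Dual.eval k P (w i)).comp V.dualAnnihilator.subtype)
  have hs : (⊤ : Subspace k V.dualAnnihilator) ∉ Finset.univ.image p := fun h => by
    obtain ⟨i, -, hi⟩ := Finset.mem_image.1 h
    obtain ⟨f, hf, hV⟩ := Submodule.exists_dual_map_eq_bot_of_notMem (hw i) inferInstance
    have hmem : f ∈ V.dualAnnihilator := (Submodule.mem_dualAnnihilator f).2 fun v hv =>
      (Submodule.mem_bot k).1 (hV ▸ Submodule.mem_map_of_mem hv)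
    have h1 : (⟨f, hmem⟩ : V.dualAnnihilator) ∈ p i := hi ▸ Submodule.mem_top
    exact hf h1
  obtain ⟨x, hx⟩ := (Set.ne_univ_iff_exists_notMem _).1 (Subspace.biUnion_ne_univ_of_top_notMem hs)
  refine ⟨x.1, (Submodule.mem_dualAnnihilator _).1 x.2, fun i hi => hx ?_⟩
  exact Set.mem_biUnion (Finset.mem_image_of_mem p (Finset.mem_univ i)) hi

/-- In an artinian Gorenstein local ring one socle element lies in all nonzero ideals. -/
theorem exists_socle_generator (R : Type u) [CommRing R] [IsLocalRing R] [IsArtinianRing R]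
    (hG : LocCoh.IsGorensteinLocalRing R) :
    ∃ v : R, v ≠ 0 ∧ (∀ t ∈ IsLocalRing.maximalIdeal R, t * v = 0) ∧ ∀ a : R, a ≠ 0 → ∃ r, r * a = v := by
  obtain ⟨s, hs, hsoc⟩ := InjHullLib.exists_socle_of_gorenstein (R := R) hG
  have hv : ∀ r : R, s (IsLocalRing.residue R r) = r * s 1 := fun r => by
    rw [← smul_eq_mul, ← map_smul]
    congr 1
    show _ = r • (1 : IsLocalRing.ResidueField R)
    rw [Algebra.smul_def, mul_one]
    rfl
  refine ⟨s 1, fun h => one_ne_zero (hs (h.trans (map_zero s).symm)), fun t ht => ?_, fun a ha => ?_⟩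
  · rw [← hv, (IsLocalRing.residue_eq_zero_iff t).2 ht, map_zero]
  obtain ⟨N, ⟨x, hxa, hx0, rfl⟩, hmin⟩ := IsArtinian.set_has_minimal
    {N : Submodule R R | ∃ x : R, x ∈ Ideal.span {a} ∧ x ≠ 0 ∧ N = Ideal.span {x}}
    ⟨_, a, Ideal.mem_span_singleton_self a, ha, rfl⟩
  have hk : ∀ t ∈ IsLocalRing.maximalIdeal R, t • x = 0 := fun t ht => by
    by_contra hne
    have hle : Ideal.span {t • x} ≤ Ideal.span {x} :=
      (Ideal.span_singleton_le_iff_mem _).2 (Submodule.smul_mem _ t (Ideal.mem_span_singleton_self x))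
    have heq : Ideal.span {t • x} = Ideal.span {x} := hle.eq_of_not_lt fun hlt =>
      hmin _ ⟨_, Submodule.smul_mem _ t hxa, hne, rfl⟩ hlt
    obtain ⟨q, hq⟩ := Ideal.mem_span_singleton'.1 (heq ▸ Ideal.mem_span_singleton_self x)
    rcases IsLocalRing.isUnit_or_isUnit_of_add_one (show q * t + (1 - q * t) = 1 by ring) with hu | hu
    · exact (IsLocalRing.mem_maximalIdeal _).1 (Ideal.mul_mem_left _ q ht) hu
    · exact hx0 ((hu.mul_right_eq_zero).1 (by rw [smul_eq_mul] at hq; linear_combination -hq))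
  obtain ⟨w', hw'⟩ := hsoc x hk
  obtain ⟨w, rfl⟩ := IsLocalRing.residue_surjective w'
  rw [hv] at hw'
  have hwu : IsUnit w := by
    by_contra hwu
    exact hx0 (by rw [← hw', ← hv, (IsLocalRing.residue_eq_zero_iff w).2 hwu, map_zero])
  obtain ⟨r, hr⟩ := Ideal.mem_span_singleton'.1 hxa
  obtain ⟨w, rfl⟩ := hwu
  exact ⟨w⁻¹.1 * r, by rw [mul_assoc, hr, ← hw', ← mul_assoc, Units.inv_mul, one_mul]⟩

/-! ## Global sections and germs -/

variable (k : Type u) [Field k] {X : Scheme.{u}} [X.Over (Spec (CommRingCat.of k))]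

/-- `H⁰` as global sections. -/
def h0sec (M : X.Modules) : Coh.HH X M 0 ≃+ Γ(M, ⊤) :=
  (HHEquiv M 0).trans (H0Equiv (⊤ : X.Opens) (Coh.toAb M))

theorem h0sec_smul (M : X.Modules) (r : k) (c : Coh.HH X M 0) :
    h0sec M (r • c) = (show Γ(X, ⊤) from Coh.toGlobal (X ↘ Spec (CommRingCat.of k)) r) • h0sec M c := by
  show H0Equiv (⊤ : X.Opens) (Coh.toAb M) (HEquiv _ 0 (Sheaf.H.map (Coh.smulAb M _) 0 c)) = _
  rw [HEquiv_map, H0Equiv_hmap, Coh.smulAb_app]
  exact congrArg (fun a : Γ(X, ⊤) => a • h0sec M c) (ConcreteCategory.congr_hom (X.presheaf.map_id _) _)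

theorem h0sec_natural {M N : X.Modules} (φ : M ⟶ N) (c : Coh.HH X M 0) :
    h0sec N (Canon.HHlin k φ 0 c) = φ.app ⊤ (h0sec M c) := by
  show H0Equiv (⊤ : X.Opens) (Coh.toAb N)
    (HEquiv _ 0 (Sheaf.H.map ((SheafOfModules.toSheaf X.ringCatSheaf).map φ) 0 c)) = _
  rw [HEquiv_map, H0Equiv_hmap]
  rfl

/-- The germ of a class in `H⁰`. -/
def gst (M : X.Modules) (x : X) (c : Coh.HH X M 0) : M.presheaf.stalk x :=
  M.presheaf.germ ⊤ x trivial (h0sec M c)

theorem gst_eq (M : X.Modules) (x : X) (c : Coh.HH X M 0) :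
    gst M x c = M.presheaf.germ ⊤ x trivial (h0sec M c) := rfl

theorem gst_add (M : X.Modules) (x : X) (a b : Coh.HH X M 0) : gst M x (a + b) = gst M x a + gst M x b := by
  rw [gst_eq, map_add, map_add, gst_eq, gst_eq]

theorem gst_smul (M : X.Modules) (x : X) (r : k) (c : Coh.HH X M 0) :
    gst M x (r • c) = X.presheaf.germ ⊤ x trivial (Coh.toGlobal (X ↘ Spec (CommRingCat.of k)) r) • gst M x c := by
  rw [gst_eq, h0sec_smul]
  exact PresheafOfModules.germ_smul (R := X.presheaf) M.val x ⊤ trivial _ _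

theorem injective_HHlin_zero {M N : X.Modules} (φ : M ⟶ N) [Mono φ] :
    Function.Injective (Canon.HHlin k φ 0) := fun a b h => (h0sec M).injective
  (CohCmpLib.injective_app_of_mono φ ⊤ (by rw [← h0sec_natural k, h, h0sec_natural k]))

theorem mem_range_of_germ {M N : X.Modules} (φ : M ⟶ N) [Mono φ] (c : Coh.HH X N 0)
    (h : ∀ x, ∃ m, stalkLin φ x m = gst N x c) :
    c ∈ LinearMap.range (Canon.HHlin k φ 0) := by
  let s := DCohLib.secHom N (h0sec N c)
  have hs : s ≫ cokernel.π φ = 0 := by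
    refine (eq_zero_iff_stalk _).2 fun x => LinearMap.ext fun r => ?_
    obtain ⟨a, rfl⟩ := (bijective_oneG x).2 r
    show stalkLin (s ≫ cokernel.π φ) x (a • oneG x) = 0
    obtain ⟨m, hm⟩ := h x
    have h1 : stalkLin s x (oneG x) = stalkLin φ x m := by
      rw [hm, gst_eq, ← AmpleLib.sec_secHom (L := N) (h0sec N c)]
      exact stalkLin_germ s (U := ⊤) x trivial _
    rw [map_smul, stalkLin_comp, LinearMap.comp_apply, h1, ← LinearMap.comp_apply, ← stalkLin_comp,
      cokernel.condition, DevLib.stalkLin_zero, LinearMap.zero_apply, smul_zero]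
  let t := (Abelian.monoIsKernelOfCokernel _ (cokernelIsCokernel φ)).lift (KernelFork.ofι s hs)
  have ht : t ≫ φ = s :=
    (Abelian.monoIsKernelOfCokernel _ (cokernelIsCokernel φ)).fac (KernelFork.ofι s hs) WalkingParallelPair.zero
  refine ⟨(h0sec M).symm (AmpleLib.sec t), (h0sec N).injective ?_⟩
  rw [h0sec_natural, AddEquiv.apply_symm_apply]
  show AmpleLib.sec (t ≫ φ) = _
  rw [ht]
  exact AmpleLib.sec_secHom _

/-! ## The algebra of the subscheme -/

/-- A local ring of a closed subscheme, as an algebra over the base field. -/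
@[nolint unusedArguments]
def RQ (_k : Type u) (I : X.IdealSheafData) (x : X) : Type u := X.presheaf.stalk x ⧸ IntMult.stalkIdeal I x

instance (I : X.IdealSheafData) (x : X) : CommRing (RQ k I x) :=
  inferInstanceAs (CommRing (X.presheaf.stalk x ⧸ IntMult.stalkIdeal I x))

instance (I : X.IdealSheafData) (x : X) : Algebra k (RQ k I x) :=
  ((Ideal.Quotient.mk (IntMult.stalkIdeal I x)).comp
    ((X.presheaf.germ ⊤ x trivial).hom.comp (Coh.toGlobal (X ↘ Spec (CommRingCat.of k))))).toAlgebra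

/-- The class of a function in the local ring of a closed subscheme. -/
def rq (I : X.IdealSheafData) (x : X) : X.presheaf.stalk x →+* RQ k I x := Ideal.Quotient.mk _

theorem rq_surjective (I : X.IdealSheafData) (x : X) : Function.Surjective (rq k I x) :=
  Ideal.Quotient.mk_surjective

theorem rq_eq_zero_iff {I : X.IdealSheafData} {x : X} {r : X.presheaf.stalk x} :
    rq k I x r = 0 ↔ r ∈ IntMult.stalkIdeal I x :=
  Ideal.Quotient.eq_zero_iff_mem

/-- The stalks of the structure sheaf of a closed subscheme, over the base field. -/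
def rqEquiv (I : X.IdealSheafData) (x : X) : RQ k I x ≃ₗ[k] CurveLib.KStalk k (ClSub.quotMod I) x :=
  let e := (LeffCore.nonempty_stalk_quotMod I x).some
  { e.toAddEquiv with
    map_smul' := fun c v => by
      obtain ⟨r, rfl⟩ := rq_surjective k I x v
      exact e.map_smul ((X.presheaf.germ ⊤ x trivial).hom (Coh.toGlobal (X ↘ Spec (CommRingCat.of k)) c))
        (Ideal.Quotient.mk _ r) }

/-- The algebra of functions on a subscheme with finite support `S`. -/
abbrev PQ (I : X.IdealSheafData) (S : Set X) : Type u := (z : S) → RQ k I z.1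

/-- Coordinates with respect to a generator. -/
def coord {L : X.Modules} {x : X} {e : L.presheaf.stalk x} (he : KoszTwLib.IsGen L x e) :
    L.presheaf.stalk x ≃ₗ[X.presheaf.stalk x] X.presheaf.stalk x :=
  (LinearEquiv.ofBijective (LinearMap.toSpanSingleton (X.presheaf.stalk x) (L.presheaf.stalk x) e) he).symm

theorem coord_smul {L : X.Modules} {x : X} {e : L.presheaf.stalk x} (he : KoszTwLib.IsGen L x e)
    (r : X.presheaf.stalk x) : coord he (r • e) = r :=
  (LinearEquiv.symm_apply_eq _).2 rfl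

theorem coord_spec {L : X.Modules} {x : X} {e : L.presheaf.stalk x} (he : KoszTwLib.IsGen L x e)
    (m : L.presheaf.stalk x) : coord he m • e = m :=
  (LinearEquiv.ofBijective (LinearMap.toSpanSingleton (X.presheaf.stalk x) (L.presheaf.stalk x) e) he).apply_symm_apply m

/-- Evaluation of global sections on a subscheme. -/
def evQ (I : X.IdealSheafData) (S : Set X) {L : X.Modules} {g : ∀ z : S, L.presheaf.stalk z.1}
    (hg : ∀ z : S, KoszTwLib.IsGen L z.1 (g z)) : Coh.HH X L 0 →ₗ[k] PQ k I S where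
  toFun c := fun z => rq k I z.1 (coord (hg z) (gst L z.1 c))
  map_add' a b := funext fun z => by
    show rq k I z.1 (coord (hg z) (gst L z.1 (a + b))) = _
    rw [gst_add, map_add, map_add]
    rfl
  map_smul' r c := funext fun z => by
    show rq k I z.1 (coord (hg z) (gst L z.1 (r • c))) = _
    rw [gst_smul k, map_smul, smul_eq_mul, map_mul]
    rfl

theorem evQ_apply (I : X.IdealSheafData) (S : Set X) {L : X.Modules} {g : ∀ z : S, L.presheaf.stalk z.1}
    (hg : ∀ z : S, KoszTwLib.IsGen L z.1 (g z)) (c : Coh.HH X L 0) (z : S) :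
    evQ k I S hg c z = rq k I z.1 (coord (hg z) (gst L z.1 c)) := rfl

/-! ## The kernel of evaluation -/

/-- The map `L ⊗ I ⟶ L`. -/
def twι (I : X.IdealSheafData) (L : X.Modules) : CohB1.tensorMod L (ClSub.idealMod I) ⟶ L :=
  ((DCoh.tensorBi (X := X)).obj L).map (ClSub.idealModι I) ≫ (AmpleLib.unitR L).hom

theorem stalkLin_twι (I : X.IdealSheafData) (L : X.Modules) (x : X) (e : L.presheaf.stalk x)
    (a : (ClSub.idealMod I).presheaf.stalk x) (r : X.presheaf.stalk x)
    (hr : r • oneG x = stalkLin (ClSub.idealModι I) x a) :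
    stalkLin (twι I L) x (stalkTensor x L (ClSub.idealMod I) (e ⊗ₜ a)) = r • e := by
  rw [twι, stalkLin_comp, LinearMap.comp_apply]
  refine (congrArg (stalkLin (AmpleLib.unitR L).hom x)
    (stalkTensor_natural_right x (ClSub.idealModι I) (e ⊗ₜ[X.presheaf.stalk x] a))).trans ?_
  rw [LinearMap.lTensor_tmul, ← hr, TensorProduct.tmul_smul, map_smul, map_smul]
  exact congrArg (r • ·) (LocFreeHomLib.runitMap_stalk L x e)

theorem exists_tmul_eq (I : X.IdealSheafData) (L : X.Modules) {x : X} {e : L.presheaf.stalk x}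
    (he : KoszTwLib.IsGen L x e) (t : (CohB1.tensorMod L (ClSub.idealMod I)).presheaf.stalk x) :
    ∃ a, stalkTensor x L (ClSub.idealMod I) (e ⊗ₜ a) = t := by
  obtain ⟨t, rfl⟩ := (stalkTensor x L (ClSub.idealMod I)).surjective t
  suffices ∃ a, e ⊗ₜ[X.presheaf.stalk x] a = t from ⟨this.choose, congrArg _ this.choose_spec⟩
  induction t using TensorProduct.induction_on with
  | zero => exact ⟨0, TensorProduct.tmul_zero _ _⟩
  | tmul m a => exact ⟨coord he m • a, by rw [← TensorProduct.smul_tmul, coord_spec]⟩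
  | add a b ha hb =>
    obtain ⟨a, rfl⟩ := ha
    obtain ⟨b, rfl⟩ := hb
    exact ⟨a + b, TensorProduct.tmul_add _ _ _⟩

theorem mono_twι (I : X.IdealSheafData) {L : X.Modules} (hL : PicF.IsInvertible L) : Mono (twι I L) := by
  haveI : Mono (ClSub.idealModι I) := by unfold ClSub.idealModι; infer_instance
  refine (mono_iff_stalk _).2 fun x => (injective_iff_map_eq_zero (stalkLin (twι I L) x)).2 fun t ht => ?_
  obtain ⟨e, he⟩ := ParaFLib.exists_stalk_gen hL x
  obtain ⟨a, rfl⟩ := exists_tmul_eq I L he t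
  obtain ⟨r, hr⟩ := (bijective_oneG x).2 (stalkLin (ClSub.idealModι I) x a)
  change r • oneG x = _ at hr
  rw [stalkLin_twι I L x e a r hr] at ht
  have hr0 : r = 0 := he.1 (show r • e = (0 : X.presheaf.stalk x) • e by rw [ht, zero_smul])
  have ha : a = 0 := (mono_iff_stalk (ClSub.idealModι I)).1 inferInstance x (by
    rw [map_zero, ← hr, hr0, zero_smul])
  rw [ha, TensorProduct.tmul_zero, map_zero]

theorem mem_range_twι_iff (I : X.IdealSheafData) {L : X.Modules} {x : X} {e : L.presheaf.stalk x}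
    (he : KoszTwLib.IsGen L x e) (m : L.presheaf.stalk x) :
    (∃ t, stalkLin (twι I L) x t = m) ↔ coord he m ∈ IntMult.stalkIdeal I x := by
  constructor
  · rintro ⟨t, rfl⟩
    obtain ⟨a, rfl⟩ := exists_tmul_eq I L he t
    obtain ⟨r, hr⟩ := (bijective_oneG x).2 (stalkLin (ClSub.idealModι I) x a)
    change r • oneG x = _ at hr
    rw [stalkLin_twι I L x e a r hr, coord_smul]
    exact (HilbObsLib.mem_range_idealModι I x r).1 ⟨a, hr.symm⟩
  · intro h
    obtain ⟨a, ha⟩ := (HilbObsLib.mem_range_idealModι I x _).2 h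
    exact ⟨_, (stalkLin_twι I L x e a (coord he m) ha.symm).trans (coord_spec he m)⟩

theorem range_HHlin_twι (I : X.IdealSheafData) (S : Set X) (hS : (I.support : Set X) ⊆ S) {L : X.Modules}
    (hL : PicF.IsInvertible L) {g : ∀ z : S, L.presheaf.stalk z.1} (hg : ∀ z : S, KoszTwLib.IsGen L z.1 (g z)) :
    LinearMap.range (Canon.HHlin k (twι I L) 0) = LinearMap.ker (evQ k I S hg) := by
  haveI := mono_twι I hL
  refine le_antisymm ?_ fun c hc => mem_range_of_germ k _ c fun x => ?_
  · rintro _ ⟨c, rfl⟩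
    refine LinearMap.mem_ker.2 (funext fun z => (rq_eq_zero_iff k).2 ((mem_range_twι_iff I (hg z) _).1 ?_))
    refine ⟨gst _ z.1 c, ?_⟩
    rw [gst_eq, gst_eq, h0sec_natural]
    exact stalkLin_germ (twι I L) (U := ⊤) z.1 trivial _
  · by_cases hx : x ∈ S
    · refine (mem_range_twι_iff I (hg ⟨x, hx⟩) _).2 ((rq_eq_zero_iff k).1 ?_)
      exact congrFun (LinearMap.mem_ker.1 hc) ⟨x, hx⟩
    · obtain ⟨e, he⟩ := ParaFLib.exists_stalk_gen hL x
      refine (mem_range_twι_iff I he _).2 ?_
      rw [IdealMulLib.stalkIdeal_eq_top I fun h => hx (hS h)]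
      exact Submodule.mem_top

theorem finrank_ev_add (I : X.IdealSheafData) (S : Set X) (hS : (I.support : Set X) ⊆ S) {L : X.Modules}
    (hL : PicF.IsInvertible L) [Module.Finite k (Coh.HH X L 0)] {g : ∀ z : S, L.presheaf.stalk z.1}
    (hg : ∀ z : S, KoszTwLib.IsGen L z.1 (g z)) :
    Module.finrank k (LinearMap.range (evQ k I S hg)) +
      Module.finrank k (Coh.HH X (CohB1.tensorMod L (ClSub.idealMod I)) 0) = Module.finrank k (Coh.HH X L 0) := by
  haveI := mono_twι I hL
  rw [← LinearMap.finrank_range_of_inj (injective_HHlin_zero k (twι I L)), range_HHlin_twι k I S hS hL hg]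
  exact LinearMap.finrank_range_add_finrank_ker _

/-! ## Products of sections -/

theorem evQ_mul (I : X.IdealSheafData) (S : Set X) {A B L : X.Modules} (θ : CohB1.tensorMod A B ≅ L)
    {gA : ∀ z : S, A.presheaf.stalk z.1} {gB : ∀ z : S, B.presheaf.stalk z.1}
    (hgA : ∀ z : S, KoszTwLib.IsGen A z.1 (gA z)) (hgB : ∀ z : S, KoszTwLib.IsGen B z.1 (gB z))
    (hgL : ∀ z : S, KoszTwLib.IsGen L z.1 (stalkLin θ.hom z.1 (germMul z.1 (gA z) (gB z))))
    (a : Coh.HH X A 0) (b : Coh.HH X B 0) :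
    ∃ c : Coh.HH X L 0, evQ k I S hgL c = evQ k I S hgA a * evQ k I S hgB b := by
  refine ⟨(h0sec L).symm (θ.hom.app ⊤ (SecTwist.tmul A B ⊤ (h0sec A a) (h0sec B b))), funext fun z => ?_⟩
  rw [Pi.mul_apply, evQ_apply, evQ_apply, evQ_apply, ← map_mul]
  congr 1
  rw [gst_eq, AddEquiv.apply_symm_apply]
  rw [show L.presheaf.germ ⊤ z.1 trivial (θ.hom.app ⊤ (SecTwist.tmul A B ⊤ (h0sec A a) (h0sec B b))) =
    stalkLin θ.hom z.1 ((tmod A B).presheaf.germ ⊤ z.1 trivial (SecTwist.tmul A B ⊤ (h0sec A a) (h0sec B b)))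
    from (stalkLin_germ θ.hom (U := ⊤) z.1 trivial _).symm, KoszTwLib.germ_tmul, ← gst_eq, ← gst_eq]
  conv_lhs => rw [← coord_spec (hgA z) (gst A z.1 a),
    ← coord_spec (hgB z) (gst B z.1 b), (germMul_smul z.1 _ _ _).1,
    (germMul_smul z.1 _ _ _).2]
  refine (congrArg (coord (hgL z)) ((map_smul (stalkLin θ.hom z.1) _ _).trans ((congrArg _ (map_smul (stalkLin θ.hom z.1) _ _)).trans (smul_smul _ _ _)))).trans ?_
  exact coord_smul (hgL z) _

theorem isGen_prod {A B L : X.Modules} (θ : CohB1.tensorMod A B ≅ L) {x : X} {gA : A.presheaf.stalk x}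
    {gB : B.presheaf.stalk x} (hA : KoszTwLib.IsGen A x gA) (hB : KoszTwLib.IsGen B x gB) :
    KoszTwLib.IsGen L x (stalkLin θ.hom x (germMul x gA gB)) := by
  have hθ : Function.Bijective (stalkLin θ.hom x) :=
    ⟨(mono_iff_stalk θ.hom).1 inferInstance x, (epi_iff_stalk θ.hom).1 inferInstance x⟩
  have e : (fun r : X.presheaf.stalk x => r • stalkLin θ.hom x (germMul x gA gB)) =
      stalkLin θ.hom x ∘ fun r => r • germMul x gA gB := funext fun r => (map_smul _ _ _).symm
  show Function.Bijective _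
  rw [e]
  exact hθ.comp (KoszTwLib.isGen_germMul hA hB)

/-! ## The Cayley–Bacharach step -/

theorem stalkIdeal_sup (I J : X.IdealSheafData) (x : X) :
    IntMult.stalkIdeal (I ⊔ J) x = IntMult.stalkIdeal I x ⊔ IntMult.stalkIdeal J x := by
  obtain ⟨_, ⟨U : X.Opens, hU, rfl⟩, hxU, -⟩ :=
    X.isBasis_affineOpens.exists_subset_of_mem_open (Set.mem_univ x) isOpen_univ
  rw [IdealStalkLib.stalkIdeal_eq _ ⟨U, hU⟩ x hxU, IdealStalkLib.stalkIdeal_eq _ ⟨U, hU⟩ x hxU,
    IdealStalkLib.stalkIdeal_eq _ ⟨U, hU⟩ x hxU, ← Ideal.map_sup]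
  rfl

theorem stalkIdeal_zeroScheme_coord {L : X.Modules} (hL : PicF.IsInvertible L) {x : X} {e : L.presheaf.stalk x}
    (he : KoszTwLib.IsGen L x e) (s : Coh.structureModule X ⟶ L) :
    IntMult.stalkIdeal (PicF2.zeroScheme L s) x = Ideal.span {coord he (stalkLin s x (oneG x))} := by
  obtain ⟨e', c, he', hs, hz⟩ := SnapperCutLib.exists_coeff hL s x
  rw [hz, hs]
  refine le_antisymm ((Ideal.span_singleton_le_iff_mem _).2 (Ideal.mem_span_singleton'.2 ?_))
    ((Ideal.span_singleton_le_iff_mem _).2 (Ideal.mem_span_singleton'.2 ?_))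
  · obtain ⟨w, hw⟩ := he'.2 e
    refine ⟨w, he'.1 ?_⟩
    show (w * coord he (c • e')) • e' = c • e'
    rw [mul_comm, mul_smul, show w • e' = e from hw, coord_spec]
  · exact ⟨coord he e', by rw [map_smul, smul_eq_mul, mul_comm]⟩

/-- The Cayley–Bacharach property for the sections of `L`. -/
theorem coord_mem_of_cb (I : X.IdealSheafData) (S : Set X) (hS : (I.support : Set X) ⊆ S) {L : X.Modules}
    (hL : PicF.IsInvertible L) {g : ∀ z : S, L.presheaf.stalk z.1} (hg : ∀ z : S, KoszTwLib.IsGen L z.1 (g z))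
    (hCB : ∀ I' : X.IdealSheafData, I ⋖ I' → ∀ σ : Coh.structureModule X ⟶ L,
      PicF2.zeroScheme L σ ≤ I' → PicF2.zeroScheme L σ ≤ I)
    (z : S) (c : Coh.HH X L 0) (h0 : ∀ y : S, y ≠ z → evQ k I S hg c y = 0)
    (h1 : ∀ t ∈ IsLocalRing.maximalIdeal (X.presheaf.stalk z.1), rq k I z.1 t * evQ k I S hg c z = 0) :
    evQ k I S hg c z = 0 := by
  by_contra hne
  let σ := DCohLib.secHom L (h0sec L c)
  have hf : ∀ y : S, IntMult.stalkIdeal (PicF2.zeroScheme L σ) y.1 =
      Ideal.span {coord (hg y) (gst L y.1 c)} := fun y => by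
    rw [stalkIdeal_zeroScheme_coord hL (hg y), gst_eq]
    congr 3
    rw [← AmpleLib.sec_secHom (L := L) (h0sec L c)]
    exact stalkLin_germ σ (U := ⊤) y.1 trivial _
  let f := coord (hg z) (gst L z.1 c)
  have hfz : f ∉ IntMult.stalkIdeal I z.1 := fun h => hne ((rq_eq_zero_iff k).2 h)
  let I' := I ⊔ PicF2.zeroScheme L σ
  have hI'z : IntMult.stalkIdeal I' z.1 = IntMult.stalkIdeal I z.1 ⊔ Ideal.span {f} := by
    rw [stalkIdeal_sup, hf z]
  have hI' : ∀ y, y ≠ z.1 → IntMult.stalkIdeal I' y = IntMult.stalkIdeal I y := fun y hy => by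
    rw [stalkIdeal_sup, sup_eq_left]
    by_cases hyS : y ∈ S
    · rw [hf ⟨y, hyS⟩, Ideal.span_singleton_le_iff_mem, ← rq_eq_zero_iff k]
      exact h0 ⟨y, hyS⟩ fun h => hy (congrArg Subtype.val h)
    · rw [IdealMulLib.stalkIdeal_eq_top I fun h => hyS (hS h)]
      exact le_top
  have hlt : I < I' := lt_of_le_not_ge le_sup_left fun h => hfz
    (H1ZeroLib.stalkIdeal_mono h z.1 (hI'z.ge (Ideal.mem_sup_right (Ideal.mem_span_singleton_self f))))
  have hcov : I ⋖ I' := by
    refine ⟨hlt, fun J hIJ hJI' => ?_⟩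
    have hy : ∀ y, y ≠ z.1 → IntMult.stalkIdeal J y = IntMult.stalkIdeal I y := fun y hy =>
      le_antisymm ((H1ZeroLib.stalkIdeal_mono hJI'.le y).trans (hI' y hy).le)
        (H1ZeroLib.stalkIdeal_mono hIJ.le y)
    by_cases hJz : IntMult.stalkIdeal J z.1 ≤ IntMult.stalkIdeal I z.1
    · refine hIJ.not_ge (DivisorialLib.le_of_stalk fun y => ?_)
      by_cases hyz : y = z.1
      · subst hyz
        exact hJz
      · exact (hy y hyz).le
    · obtain ⟨j, hj, hjI⟩ := SetLike.not_le_iff_exists.1 hJz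
      have hj' := H1ZeroLib.stalkIdeal_mono hJI'.le z.1 hj
      rw [hI'z] at hj'
      obtain ⟨i, hi, l, hl, hil⟩ := Submodule.mem_sup.1 hj'
      obtain ⟨t, rfl⟩ := Ideal.mem_span_singleton'.1 hl
      have htu : IsUnit t := by
        by_contra htu
        refine hjI (hil ▸ add_mem hi ((rq_eq_zero_iff k).1 ?_))
        rw [map_mul]
        exact h1 t htu
      have hfJ : f ∈ IntMult.stalkIdeal J z.1 := (Ideal.unit_mul_mem_iff_mem _ htu).1 (by
        have := sub_mem hj (H1ZeroLib.stalkIdeal_mono hIJ.le z.1 hi)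
        rwa [← hil, add_sub_cancel_left] at this)
      refine hJI'.not_ge (DivisorialLib.le_of_stalk fun y => ?_)
      by_cases hyz : y = z.1
      · subst hyz
        rw [hI'z]
        exact sup_le (H1ZeroLib.stalkIdeal_mono hIJ.le _) ((Ideal.span_singleton_le_iff_mem _).2 hfJ)
      · exact ((hI' y hyz).trans (hy y hyz).symm).le
  refine hfz ?_
  exact H1ZeroLib.stalkIdeal_mono (hCB I' hcov σ le_sup_right) z.1
    ((hf z).ge (Ideal.mem_span_singleton_self f))

/-! ## The inequality -/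

include k in
theorem isClosed_point [LocallyOfFiniteType (X ↘ Spec (CommRingCat.of k))] {Z : Set X} (hZ : IsClosed Z)
    (hfin : Z.Finite) {z : X} (hz : z ∈ Z) : IsClosed ({z} : Set X) := by
  haveI : JacobsonSpace X := LocallyOfFiniteType.jacobsonSpace (X ↘ Spec (CommRingCat.of k))
  have hf : (Z ∩ closedPoints X).Finite := hfin.subset Set.inter_subset_left
  have hc : IsClosed (Z ∩ closedPoints X) := by
    rw [← Set.biUnion_of_singleton (Z ∩ closedPoints X)]
    exact hf.isClosed_biUnion fun y hy => hy.2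
  have : z ∈ closure (Z ∩ closedPoints X) := by rw [JacobsonSpace.closure_inter_closedPoints hZ]; exact hz
  rw [hc.closure_eq] at this
  exact this.2

variable [Infinite k] [IsProper (X ↘ Spec (CommRingCat.of k))] [Smooth (X ↘ Spec (CommRingCat.of k))]
  [IrreducibleSpace X]

theorem rank_add_rank_le (hdim : topologicalKrullDim X = 2) (I : X.IdealSheafData)
    (hfin : (I.support : Set X).Finite)
    (hlci : ∀ x : X, ∃ V : X.affineOpens, x ∈ (V : X.Opens) ∧ ∃ a b : Γ(X, V), I.ideal V = Ideal.span {a, b})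
    {A B L : X.Modules} (hA : PicF.IsInvertible A) (hB : PicF.IsInvertible B) (hL : PicF.IsInvertible L)
    (θ : CohB1.tensorMod A B ≅ L)
    (hCB : ∀ I' : X.IdealSheafData, I ⋖ I' → ∀ σ : Coh.structureModule X ⟶ L,
      PicF2.zeroScheme L σ ≤ I' → PicF2.zeroScheme L σ ≤ I) :
    ((Module.finrank k (Coh.HH X A 0) : ℤ) - Module.finrank k (Coh.HH X (CohB1.tensorMod A (ClSub.idealMod I)) 0)) +
      ((Module.finrank k (Coh.HH X B 0) : ℤ) - Module.finrank k (Coh.HH X (CohB1.tensorMod B (ClSub.idealMod I)) 0)) ≤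
      FGA.eulerCharLE k X (ClSub.quotMod I) 2 := by
  classical
  haveI := EulerIneqLib.isNoetherian_proper (X := X) k
  let S : Set X := (I.support : Set X)
  have hSc : IsClosed S := I.support.isClosed
  have hd0 := ExtStab.dim_le_zero_of_finite_closed k hSc hfin
  have hsupp : CohB1.support (ClSub.quotMod I) ⊆ S := IntLib.support_quotMod_subset I
  haveI : Fintype S := hfin.fintype
  haveI := EulerIneqLib.finite_HH (k := k) (IntLib.isCoh_quotMod I) 0
  obtain ⟨a₀⟩ := CurveLib.exists_equiv_pi (k := k) hSc hsupp hd0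
  let a₁ : Coh.HH X (ClSub.quotMod I) 0 ≃ₗ[k] PQ k I S :=
    a₀ ≪≫ₗ (LinearEquiv.piCongrRight fun z : S => (rqEquiv k I z.1).symm)
  haveI : Module.Finite k (PQ k I S) := Module.Finite.equiv a₁
  have hχ : FGA.eulerCharLE k X (ClSub.quotMod I) 2 = (Module.finrank k (PQ k I S) : ℤ) := by
    rw [← a₁.finrank_eq, FGA.eulerCharLE, Finset.sum_range_succ, Finset.sum_range_succ, Finset.sum_range_one]
    haveI := CurveLib.subsingleton_HH_of_support (ClSub.quotMod I) hSc hsupp (d := 0) hd0 (p := 1) one_pos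
    haveI := CurveLib.subsingleton_HH_of_support (ClSub.quotMod I) hSc hsupp (d := 0) hd0 (p := 2) two_pos
    rw [Module.finrank_zero_of_subsingleton (M := Coh.HH X (ClSub.quotMod I) 1),
      Module.finrank_zero_of_subsingleton (M := Coh.HH X (ClSub.quotMod I) 2)]
    simp
  have hsocle : ∀ z : S, ∃ v : RQ k I z.1, v ≠ 0 ∧
      (∀ t ∈ IsLocalRing.maximalIdeal (X.presheaf.stalk z.1), rq k I z.1 t * v = 0) ∧
      ∀ a : RQ k I z.1, a ≠ 0 → ∃ r, r * a = v := fun z => by
    haveI := CurveLib.isRegularLocalRing_stalk_of_smooth (k := k) (X := X) z.1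
    obtain ⟨V, hzV, a, b, hab⟩ := hlci z.1
    let rs : List (X.presheaf.stalk z.1) := [X.presheaf.germ V.1 z.1 hzV a, X.presheaf.germ V.1 z.1 hzV b]
    have hI : IntMult.stalkIdeal I z.1 = Ideal.ofList rs := by
      rw [IdealStalkLib.stalkIdeal_eq I V z.1 hzV, hab, Ideal.map_span, Set.image_pair]
      refine congrArg Ideal.span (Set.ext fun r => ?_)
      simp [rs]
    have hle : IntMult.stalkIdeal I z.1 ≤ IsLocalRing.maximalIdeal _ := H1ZeroLib.stalkIdeal_le_maximal z.2
    haveI : Module.Finite k (RQ k I z.1) := Module.Finite.of_surjective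
      (LinearMap.proj z : PQ k I S →ₗ[k] RQ k I z.1) fun v =>
        ⟨Pi.single z v, by simp⟩
    haveI : IsArtinianRing (RQ k I z.1) := IsArtinianRing.of_finite k _
    haveI : IsArtinianRing (X.presheaf.stalk z.1 ⧸ IntMult.stalkIdeal I z.1) :=
      inferInstanceAs (IsArtinianRing (RQ k I z.1))
    have hh : ∀ Q : PrimeSpectrum (X.presheaf.stalk z.1), Ideal.ofList rs ≤ Q.asIdeal →
        (rs.length : ℕ∞) ≤ Q.asIdeal.height := fun Q hQ => by
      rw [← hI] at hQ
      haveI : (Q.asIdeal.map (Ideal.Quotient.mk (IntMult.stalkIdeal I z.1))).IsPrime :=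
        Ideal.map_isPrime_of_surjective Ideal.Quotient.mk_surjective (by rw [Ideal.mk_ker]; exact hQ)
      have hmax : Q.asIdeal.IsMaximal := by
        have := Ideal.comap_isMaximal_of_surjective (Ideal.Quotient.mk (IntMult.stalkIdeal I z.1))
          Ideal.Quotient.mk_surjective (K := Q.asIdeal.map (Ideal.Quotient.mk (IntMult.stalkIdeal I z.1)))
        rwa [Ideal.comap_map_of_surjective _ Ideal.Quotient.mk_surjective, ← RingHom.ker_eq_comap_bot,
          Ideal.mk_ker, sup_eq_left.2 hQ] at this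
      have h2 := BoundaryConn.ringKrullDim_stalk_closed (X ↘ Spec (CommRingCat.of k)) z.1
        (isClosed_point k hSc hfin z.2)
      rw [hdim, ← IsLocalRing.maximalIdeal_height_eq_ringKrullDim] at h2
      rw [IsLocalRing.eq_maximalIdeal hmax]
      have h3 : (IsLocalRing.maximalIdeal (X.presheaf.stalk z.1)).height = (2 : ℕ∞) := WithBot.coe_injective h2
      rw [h3]
      rfl
    have hG := LiaisonLib.gorenstein_quot_of_height rs (fun r hr => hle (hI ▸ Ideal.subset_span hr)) hh
    rw [← hI] at hG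
    haveI : Nontrivial (X.presheaf.stalk z.1 ⧸ IntMult.stalkIdeal I z.1) :=
      Ideal.Quotient.nontrivial_iff.2 fun h => (IsLocalRing.maximalIdeal.isMaximal _).ne_top (top_le_iff.1 (h ▸ hle))
    haveI : IsLocalRing (X.presheaf.stalk z.1 ⧸ IntMult.stalkIdeal I z.1) :=
      .of_surjective' (Ideal.Quotient.mk _) Ideal.Quotient.mk_surjective
    obtain ⟨v, hv0, hv1, hv2⟩ := exists_socle_generator _ hG
    refine ⟨v, hv0, fun t ht => hv1 _ ?_, hv2⟩
    intro hu
    obtain ⟨s', hs'⟩ := hu.exists_right_inv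
    obtain ⟨s, rfl⟩ := Ideal.Quotient.mk_surjective s'
    change Ideal.Quotient.mk (IntMult.stalkIdeal I z.1) t * _ = 1 at hs'
    rw [← map_mul, ← map_one (Ideal.Quotient.mk (IntMult.stalkIdeal I z.1)), Ideal.Quotient.eq] at hs'
    refine (IsLocalRing.maximalIdeal.isMaximal (X.presheaf.stalk z.1)).ne_top ((Ideal.eq_top_iff_one _).2 ?_)
    simpa using sub_mem (Ideal.mul_mem_right s _ ht) (hle hs')
  choose v hv0 hv1 hv2 using hsocle
  choose gA hgA using fun z : S => ParaFLib.exists_stalk_gen hA z.1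
  choose gB hgB using fun z : S => ParaFLib.exists_stalk_gen hB z.1
  have hgL := fun z : S => isGen_prod θ (hgA z) (hgB z)
  let w : S → PQ k I S := fun z => Pi.single z (v z)
  have hw : ∀ z, w z ∉ LinearMap.range (evQ k I S hgL) := fun z ⟨c, hc⟩ => hv0 z (by
    have hcz : evQ k I S hgL c z = v z := by rw [hc]; simp [w]
    rw [← hcz]
    refine coord_mem_of_cb k I S le_rfl hL hgL hCB z c (fun y hy => ?_) fun t ht => ?_
    · rw [hc]
      exact Pi.single_eq_of_ne hy _
    · rw [hcz]
      exact hv1 z t ht)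
  obtain ⟨lam, hlam0, hlam1⟩ := exists_form (LinearMap.range (evQ k I S hgL)) w hw
  have key := finrank_add_finrank_le (LinearMap.range (evQ k I S hgA)) (LinearMap.range (evQ k I S hgB)) lam
    (by
      rintro _ ⟨a, rfl⟩ _ ⟨b, rfl⟩
      obtain ⟨c, hc⟩ := evQ_mul k I S θ hgA hgB hgL a b
      rw [← hc]
      exact hlam0 _ ⟨c, rfl⟩)
    (fun x hx => by
      obtain ⟨z, hz⟩ := Function.ne_iff.1 hx
      obtain ⟨r, hr⟩ := hv2 z (x z) hz
      refine ⟨Pi.single z r, ?_⟩
      have : Pi.single z r * x = w z := funext fun y => by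
        by_cases hy : y = z
        · subst hy; simp [w, hr]
        · simp [w, Pi.single_eq_of_ne hy]
      rw [this]
      exact hlam1 z)
  haveI := EulerIneqLib.finite_HH (k := k) (CurveLib.isCoh_of_isInvertible hA) 0
  haveI := EulerIneqLib.finite_HH (k := k) (CurveLib.isCoh_of_isInvertible hB) 0
  have eA := finrank_ev_add k I S le_rfl hA hgA
  have eB := finrank_ev_add k I S le_rfl hB hgB
  rw [hχ, ← eA, ← eB]
  push_cast
  linarith [(Int.ofNat_le.2 key)]

end Groth.Agent.CBLib
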