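import Groth.Agent.CBLib.Point
import Groth.Agent.ExtStabLib.PointExt
import Groth.Agent.ExtOneLib
import Groth.Agent.ExtNatLib.Basic
import Groth.Agent.SiteBase.ModCoh
import Groth.Agent.FundLocIsoLib.SerreDual
import Groth.Agent.NumBddLib.Res
import Groth.Agent.DCohMore.TwistOver
import Groth.Agent.TwistShriek.SurfSmooth

/-!
# The residue at a point of a surface
-/

set_option autoImplicit false
set_option backward.isDefEq.respectTransparency false
set_option linter.style.haveILetI false
set_option maxHeartbeats 1000000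
set_option synthInstance.maxHeartbeats 200000

universe u

open CategoryTheory CategoryTheory.Limits CategoryTheory.Abelian AlgebraicGeometry TopologicalSpace
open Groth.Agent.PullbackMod Groth.Agent.DCohLib Groth.Agent.CurveLib

noncomputable section

namespace Groth.Agent.CBLib

section general

variable {C : Type*} [Category C] [Abelian C] [HasExt.{u} C] [EnoughInjectives C]

/-- A natural transformation out of the identity slides along extension classes. -/
theorem ext_slide {G : C ⥤ C} [G.Additive] [PreservesFiniteLimits G] [PreservesFiniteColimits G]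
    (τ : 𝟭 C ⟶ G) {n : ℕ} {A B : C} (η : Ext.{u} A B n) :
    η.comp (Ext.mk₀ (τ.app B)) (add_zero n) = (Ext.mk₀ (τ.app A)).comp (η.mapExactFunctor G) (zero_add n) := by
  have h := ExtNatLib.mapExactFunctor_naturality (𝟭 C) G τ n η
  rwa [ExtNatLib.mapExactFunctor_id] at h

/-- The action of a composite of exact functors. -/
theorem mapExactFunctor_comp' (F : C ⥤ C) [F.Additive] [PreservesFiniteLimits F] [PreservesFiniteColimits F]
    (G : C ⥤ C) [G.Additive] [PreservesFiniteLimits G] [PreservesFiniteColimits G]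
    [PreservesFiniteLimits (F ⋙ G)] [PreservesFiniteColimits (F ⋙ G)]
    (n : ℕ) {A B : C} (x : Ext.{u} A B n) :
    (x.mapExactFunctor F).mapExactFunctor G = x.mapExactFunctor (F ⋙ G) := by
  induction n generalizing B with
  | zero =>
    obtain ⟨f, rfl⟩ := (Ext.mk₀_bijective A B).2 x
    rw [Ext.mapExactFunctor_mk₀, Ext.mapExactFunctor_mk₀, Ext.mapExactFunctor_mk₀]
    rfl
  | succ n ih =>
    obtain ⟨J⟩ := EnoughInjectives.presentation B
    let S : ShortComplex C := ShortComplex.mk J.f (cokernel.π J.f) (cokernel.condition _)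
    have hS : S.ShortExact :=
      { exact := ShortComplex.exact_of_g_is_cokernel _ (cokernelIsCokernel _) }
    haveI : Injective S.X₂ := J.injective
    obtain ⟨y, rfl⟩ : ∃ y : Ext A S.X₃ n, y.comp hS.extClass rfl = x :=
      Ext.covariant_sequence_exact₁ A hS x (Ext.eq_zero_of_injective (I := S.X₂) _) rfl
    rw [Ext.mapExactFunctor_comp, Ext.mapExactFunctor_comp, Ext.mapExactFunctor_comp, ih,
      Ext.mapExactFunctor_extClass F hS, Ext.mapExactFunctor_extClass (F ⋙ G) hS]
    refine congrArg (fun z => (y.mapExactFunctor (F ⋙ G)).comp z rfl) ?_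
    exact Ext.mapExactFunctor_extClass G (hS.map_of_exact F)

/-- An exact functor with a left inverse on both sides acts injectively. -/
theorem ext_untwist (F G : C ⥤ C) [F.Additive] [PreservesFiniteLimits F] [PreservesFiniteColimits F]
    [G.Additive] [PreservesFiniteLimits G] [PreservesFiniteColimits G] (u : F ⋙ G ≅ 𝟭 C)
    {n : ℕ} {A B : C} (η : Ext.{u} A B n) :
    ((η.mapExactFunctor F).mapExactFunctor G).comp (Ext.mk₀ (u.hom.app B)) (add_zero n) =
      (Ext.mk₀ (u.hom.app A)).comp η (zero_add n) := by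
  haveI : PreservesFiniteLimits (F ⋙ G) := comp_preservesFiniteLimits F G
  haveI : PreservesFiniteColimits (F ⋙ G) := comp_preservesFiniteColimits F G
  have h := ExtNatLib.mapExactFunctor_naturality (F ⋙ G) (𝟭 C) u.hom n η
  rwa [ExtNatLib.mapExactFunctor_id, ← mapExactFunctor_comp'] at h

theorem eq_zero_of_iso_comp {A A' B : C} {n : ℕ} (f : A ⟶ A') [IsIso f] {x : Ext.{u} A' B n}
    (h : (Ext.mk₀ f).comp x (zero_add n) = 0) : x = 0 := by
  have h' := congrArg (fun z => (Ext.mk₀ (inv f)).comp z (zero_add n)) h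
  simpa [← Ext.comp_assoc_of_second_deg_zero] using h'

theorem eq_zero_of_comp_iso {A B B' : C} {n : ℕ} (f : B ⟶ B') [IsIso f] {x : Ext.{u} A B n}
    (h : x.comp (Ext.mk₀ f) (add_zero n) = 0) : x = 0 := by
  have h' := congrArg (fun z : Ext.{u} A B' n => z.comp (Ext.mk₀ (inv f)) (add_zero n)) h
  simpa [Ext.comp_assoc_of_third_deg_zero] using h'

end general

variable {X : Scheme.{u}}

theorem exact_tw {W : X.Modules} (hW : PicF.IsInvertible W) :
    PreservesFiniteLimits (CurveLib.tensR W) ∧ PreservesFiniteColimits (CurveLib.tensR W) :=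
  ((Functor.exact_tfae (CurveLib.tensR W)).out 0 3).1 fun _ hS =>
    CurveLib.shortExact_tensR hS (fun x => CurveLib.freeAt_one_of_isInvertible hW x)

/-- A twist acts injectively on extensions. -/
theorem eq_zero_of_tw [HasExt.{u} X.Modules] {W W' : X.Modules} (hW : PicF.IsInvertible W)
    (hW' : PicF.IsInvertible W') (e : CohB1.tensorMod W W' ≅ Coh.structureModule X)
    [PreservesFiniteLimits (CurveLib.tensR W)]
    {n : ℕ} {A B : X.Modules} {η : Ext.{u} A B n} (h : η.mapExactFunctor (CurveLib.tensR W) = 0) : η = 0 := by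
  haveI := (exact_tw hW').1
  have h' := ext_untwist (CurveLib.tensR W) (CurveLib.tensR W') (VBLib.untwist e) η
  rw [h, Ext.mapExactFunctor_zero, Ext.zero_comp] at h'
  exact eq_zero_of_iso_comp _ h'.symm

/-- Maps from an invertible module into its twist come from sections. -/
theorem exists_sec {M : X.Modules} (hM : PicF.IsInvertible M) {W : X.Modules}
    (ψ : M ⟶ (CurveLib.tensR W).obj M) :
    ∃ s : Coh.structureModule X ⟶ W, (secTw s).app M = ψ := by
  obtain ⟨N, -, ⟨η⟩⟩ := AmpleEmb.exists_isInverseOf hM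
  haveI := VBLib.isEquivalence_tensR η
  haveI hEq : (CurveLib.tensR M).IsEquivalence := VBLib.isEquivalence_tensR η
  haveI : ((DCoh.tensorBi (X := X)).obj M).IsEquivalence :=
    @Functor.isEquivalence_of_iso _ _ _ _ (CurveLib.tensR M) _ (ModTensor.tensorSymm X.sheaf M) hEq
  obtain ⟨s, hs⟩ := ((DCoh.tensorBi (X := X)).obj M).map_surjective
    (((ModTensor.tensorUnitRight X.sheaf).app M).hom ≫ ψ)
  refine ⟨s, ?_⟩
  show ((ModTensor.tensorUnitRight X.sheaf).app M).inv ≫ ((DCoh.tensorBi (X := X)).obj M).map s = ψ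
  rw [hs, Iso.inv_hom_id_assoc]

/-- Extension classes out of the structure module as cohomology classes. -/
def chi [HasExt.{u} X.Modules] (M : X.Modules) (n : ℕ) : Ext.{u} (Coh.structureModule X) M n ≃+ Coh.HH X M n :=
  haveI : HasExt.{u} (SheafOfModules.{u} X.ringCatSheaf) := ‹HasExt.{u} X.Modules›
  SiteBase.extUnitEquiv (G := SheafOfModules.toSheaf X.ringCatSheaf) (SiteBase.unitSh X.ringCatSheaf)
    (SiteBase.unitSh_bijective X.ringCatSheaf)
    (fun I _ m => SiteBase.subsingleton_H_of_isTotallyAcyclic (SiteBase.isTotallyAcyclic_toSheaf_injective I) m) M n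

theorem chi_natural [HasExt.{u} X.Modules] {M M' : X.Modules} (φ : M ⟶ M') (n : ℕ)
    (x : Ext.{u} (Coh.structureModule X) M n) :
    chi M' n (x.comp (Ext.mk₀ φ) (add_zero n)) =
      Sheaf.H.map ((SheafOfModules.toSheaf X.ringCatSheaf).map φ) n (chi M n x) := by
  haveI : HasExt.{u} (SheafOfModules.{u} X.ringCatSheaf) := ‹HasExt.{u} X.Modules›
  refine (SiteBase.extUnitHom_comp (G := SheafOfModules.toSheaf X.ringCatSheaf)
    (SiteBase.unitSh X.ringCatSheaf) x (Ext.mk₀ φ) (add_zero n)).trans ?_
  rw [Ext.mapExactFunctor_mk₀]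
  rfl

theorem subsingleton_ext_O [HasExt.{u} X.Modules] {M : X.Modules} {n : ℕ} (h : Subsingleton (Coh.HH X M n)) :
    Subsingleton (Ext.{u} (Coh.structureModule X) M n) :=
  (chi M n).toEquiv.subsingleton

variable (k : Type u) [Field k] [IsAlgClosed k] [X.Over (Spec (CommRingCat.of k))]
  [IsProper (X ↘ Spec (CommRingCat.of k))] [Smooth (X ↘ Spec (CommRingCat.of k))] [IsIntegral X]
  {z : X} (hz : IsClosed ({z} : Set X))

include k in
theorem shortExact_ptI : ∃ w, (ShortComplex.mk (ClSub.idealModι (ptI z hz)) (ptπ z hz) w).ShortExact := by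
  haveI := EulerIneqLib.isNoetherian_proper (X := X) k
  haveI : Epi (ptπ z hz) := HilbObsLib.epi_toSubscheme _
  haveI : Mono (ClSub.idealModι (ptI z hz)) := inferInstanceAs (Mono (kernel.ι _))
  exact ⟨kernel.condition _,
    { exact := ShortComplex.exact_of_f_is_kernel _ (kernelIsKernel (ptπ z hz)) }⟩

include k in
theorem ptπ_ne_zero : ptπ z hz ≠ 0 := fun h => by
  have h1 := (qv_pt_zero k hz 1).1 (by
    show stalkLin (ptπ z hz) z ((1 : X.presheaf.stalk z) • ParaFLib.oneG z) = 0
    rw [h, DevLib.stalkLin_zero]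
    rfl)
  exact (IsLocalRing.maximalIdeal (X.presheaf.stalk z)).ne_top_iff_one.1
    (IsLocalRing.maximalIdeal.isMaximal _).ne_top h1

include k in
/-- Twisting far down makes a composite of the point sequence and a locally free presentation nonzero. -/
theorem twist_class_ne_zero [HasExt.{u} X.Modules] {wI : ClSub.idealModι (ptI z hz) ≫ ptπ z hz = 0}
    (hI : (ShortComplex.mk (ClSub.idealModι (ptI z hz)) (ptπ z hz) wI).ShortExact)
    {K P : X.Modules} {a : K ⟶ P} {b : P ⟶ ClSub.idealMod (ptI z hz)} {w : a ≫ b = 0}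
    (he : (ShortComplex.mk a b w).ShortExact) {N : X.Modules}
    [PreservesFiniteLimits (CurveLib.tensR N)] [PreservesFiniteColimits (CurveLib.tensR N)]
    (hP : Subsingleton (Coh.HH X ((CurveLib.tensR N).obj P) 1))
    (hO : Subsingleton (Coh.HH X ((CurveLib.tensR N).obj (Coh.structureModule X)) 0))
    (i : ptQ z hz ≅ (CurveLib.tensR N).obj (ptQ z hz)) :
    (Ext.mk₀ (ptπ z hz ≫ i.hom)).comp
        ((hI.extClass.comp he.extClass (show 1 + 1 = 2 from rfl)).mapExactFunctor (CurveLib.tensR N))
        (zero_add 2) ≠ 0 := by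
  intro h
  let G := CurveLib.tensR N
  have eI : hI.extClass.mapExactFunctor G = (hI.map_of_exact G).extClass := Ext.mapExactFunctor_extClass G hI
  have eE : he.extClass.mapExactFunctor G = (he.map_of_exact G).extClass := Ext.mapExactFunctor_extClass G he
  rw [Ext.mapExactFunctor_comp, eI, eE,
    ← Ext.comp_assoc _ _ _ (zero_add 1) (show 1 + 1 = 2 from rfl) (by omega)] at h
  obtain ⟨q, hq⟩ := Ext.covariant_sequence_exact₃ (Coh.structureModule X) (he.map_of_exact G) _ rfl h
  haveI := subsingleton_ext_O hP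
  rw [show q = 0 from Subsingleton.elim (α := Ext.{u} (Coh.structureModule X) (G.obj P) 1) _ _, Ext.zero_comp] at hq
  obtain ⟨r, hr⟩ := Ext.covariant_sequence_exact₃ (Coh.structureModule X) (hI.map_of_exact G)
    (Ext.mk₀ (ptπ z hz ≫ i.hom)) (zero_add 1) hq.symm
  haveI := subsingleton_ext_O hO
  rw [show r = 0 from Subsingleton.elim (α := Ext.{u} (Coh.structureModule X) (G.obj (Coh.structureModule X)) 0) _ _,
    Ext.zero_comp] at hr
  have h0 : ptπ z hz ≫ i.hom = 0 := (Ext.mk₀_bijective _ _).1 (hr.symm.trans (Ext.mk₀_zero _ _).symm)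
  exact ptπ_ne_zero k hz ((cancel_mono i.hom).1 (h0.trans zero_comp.symm))

include k in
/-- An invertible module with prescribed vanishing after twisting. -/
theorem exists_neg_twist (hdim : topologicalKrullDim X = 2) {H : X.Modules} (hH : CohB1.IsAmple H)
    {P : X.Modules} (hP : FlatMod.IsFinLocFree P) :
    ∃ N : X.Modules, PicF.IsInvertible N ∧ Subsingleton (Coh.HH X ((CurveLib.tensR N).obj P) 1) ∧
      Subsingleton (Coh.HH X ((CurveLib.tensR N).obj (Coh.structureModule X)) 0) := by
  haveI := TwistShriek.smoothOfRelativeDimension_of_smooth (X ↘ Spec (CommRingCat.of k)) (d := 2) (by exact_mod_cast hdim)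
  obtain ⟨r, ι, hι0, hι⟩ := TwistShriek.exists_closedImmersion_of_ample (X ↘ Spec (CommRingCat.of k)) hH
  haveI := hι0
  have hcm := FundLocIsoLib.cm_closedPoint (n := 2) ι hι
  obtain ⟨m₁, h₁⟩ := ProjSerreLib.vanish_of_cm ι hcm P hP
  obtain ⟨m₀, h₀⟩ := ProjSerreLib.vanish_of_cm ι hcm (Coh.structureModule X) (BCLib.isFinLocFree_structureModule X)
  exact ⟨(Scheme.Modules.pullback ι).obj (Twist.twistProjSpace r k (-(max m₁ m₀))),
    AmpleLib.isInvertible_pullback ι (DCohMore.TwistOver.isInvertible_twist _),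
    h₁ _ (le_max_left _ _) 1 (by norm_num), h₀ _ (le_max_right _ _) 0 (by norm_num)⟩

end Groth.Agent.CBLib
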