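import Groth.Agent.CBLib.Residue

/-!
# Non-degeneracy of the residue at a point of a surface
-/

set_option autoImplicit false
set_option backward.isDefEq.respectTransparency false
set_option linter.style.haveILetI false
set_option maxHeartbeats 1000000
set_option synthInstance.maxHeartbeats 200000

universe u

open CategoryTheory CategoryTheory.Limits CategoryTheory.Abelian AlgebraicGeometry TopologicalSpace
open Groth.Agent.PullbackMod Groth.Agent.DCohLib Groth.Agent.CurveLib

noncomputable section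

namespace Groth.Agent.CBLib

variable (k : Type u) [Field k] [IsAlgClosed k] {X : Scheme.{u}} [X.Over (Spec (CommRingCat.of k))]
  [IsProper (X ↘ Spec (CommRingCat.of k))] [Smooth (X ↘ Spec (CommRingCat.of k))] [IsIntegral X]
  (hdim : topologicalKrullDim X = 2) {H : X.Modules} (hH : CohB1.IsAmple H)
  {ω : X.Modules} (hω : ExtPow.IsExtPow 2 (Omega.sheaf (X ↘ Spec (CommRingCat.of k))) ω)

include hdim hH hω

/-- The trace on the top cohomology of the canonical module. -/
theorem exists_trace : PicF.IsInvertible ω ∧ ∃ t : Coh.HH X ω 2 →ₗ[k] k, ∀ F : X.Modules, Coh.IsCoh F →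
    ∀ ψ : Coh.HH X F 2 →ₗ[k] k, ∃! φ : F ⟶ ω, ∀ x : Coh.HH X F 2,
      ψ x = t (Sheaf.H.map ((SheafOfModules.toSheaf X.ringCatSheaf).map φ) 2 x) := by
  haveI := TwistShriek.smoothOfRelativeDimension_of_smooth (X ↘ Spec (CommRingCat.of k)) (d := 2)
    (by exact_mod_cast hdim)
  obtain ⟨r, ι, hι0, hι⟩ := TwistShriek.exists_closedImmersion_of_ample (X ↘ Spec (CommRingCat.of k)) hH
  haveI := hι0
  exact ⟨SeesawVB.isInvertible_of_isExtPow hω (SeesawVB.exists_frame_omega (X ↘ Spec (CommRingCat.of k)) 2),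
    FundLocIsoLib.exists_trace_topForms ι hι hω⟩

/-- Nonzero classes of coherent modules are seen by maps to the canonical module. -/
theorem exists_hom_comp_ne_zero [HasExt.{u} X.Modules] {F : X.Modules} (hF : Coh.IsCoh F)
    {x : Ext.{u} (Coh.structureModule X) F 2} (hx : x ≠ 0) :
    ∃ φ : F ⟶ ω, x.comp (Ext.mk₀ φ) (add_zero 2) ≠ 0 := by
  obtain ⟨-, t, ht⟩ := exists_trace k hdim hH hω
  have hx' : chi F 2 x ≠ 0 := fun h => hx ((chi F 2).map_eq_zero_iff.1 h)
  obtain ⟨ψ, hψ⟩ : ∃ ψ : Module.Dual k (Coh.HH X F 2), ψ (chi F 2 x) ≠ 0 := by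
    by_contra! hne
    haveI : Module.Free k (Coh.HH X F 2) := Module.Free.of_divisionRing (K := k) (V := Coh.HH X F 2)
    haveI : Module.Projective k (Coh.HH X F 2) := Module.Projective.of_free
    exact hx' ((Module.forall_dual_apply_eq_zero_iff k _).1 hne)
  obtain ⟨φ, hφ, -⟩ := ht F hF ψ
  refine ⟨φ, fun h => hψ ?_⟩
  have h' := chi_natural φ 2 x
  rw [h, map_zero] at h'
  rw [hφ, ← h', map_zero]

variable {z : X} (hz : IsClosed ({z} : Set X))

/-- Some residue at a point is nonzero. -/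
theorem exists_residue_ne_zero [HasExt.{u} X.Modules] :
    ∃ η : Ext.{u} (ptQ z hz) ω 2, (Ext.mk₀ (ptπ z hz)).comp η (zero_add 2) ≠ 0 := by
  haveI := EulerIneqLib.isNoetherian_proper (X := X) k
  obtain ⟨r, ι, hι0, hι⟩ := TwistShriek.exists_closedImmersion_of_ample (X ↘ Spec (CommRingCat.of k)) hH
  haveI := hι0
  obtain ⟨wI, hI⟩ := shortExact_ptI k hz
  obtain ⟨a, b, p, hp⟩ := NumBdd.exists_epi_twists k ι (RefOne.isCoh_idealMod (ptI z hz))
  let P : X.Modules := ∐ fun _ : Fin b => (Scheme.Modules.pullback ι).obj (Twist.twistProjSpace r k a)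
  have hP : FlatMod.IsFinLocFree P := DCohLib.isFinLocFree_sigma b _ fun _ =>
    CurveLib.isFinLocFree_of_isInvertible (AmpleLib.isInvertible_pullback ι (DCohMore.TwistOver.isInvertible_twist _))
  haveI : Epi p := hp
  have he : (ShortComplex.mk (kernel.ι p) p (kernel.condition p)).ShortExact :=
    { exact := ShortComplex.exact_of_f_is_kernel _ (kernelIsKernel p) }
  obtain ⟨N, hN, hP1, hO0⟩ := exists_neg_twist k hdim hH hP
  haveI := (exact_tw hN).1
  obtain ⟨i⟩ := nonempty_iso_tw k hz hN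
  have hc := twist_class_ne_zero k hz hI he hP1 hO0 i
  have hKc : Coh.IsCoh ((CurveLib.tensR N).obj (kernel p)) :=
    CurveLib.isCoh_tmod (QCohLib.isCoh_kernel_cokernel p (CurveLib.isCoh_of_isFinLocFree hP)
      (RefOne.isCoh_idealMod _)).1 (CurveLib.isCoh_of_isInvertible hN)
  obtain ⟨φ, hφ⟩ := exists_hom_comp_ne_zero k hdim hH hω hKc hc
  refine ⟨(Ext.mk₀ i.hom).comp (((hI.extClass.comp he.extClass (show 1 + 1 = 2 from rfl)).mapExactFunctor
    (CurveLib.tensR N)).comp (Ext.mk₀ φ) (add_zero 2)) (zero_add 2), ?_⟩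
  rw [← Ext.comp_assoc_of_second_deg_zero, Ext.mk₀_comp_mk₀, ← Ext.comp_assoc_of_third_deg_zero]
  exact hφ

/-- The residue at a point is injective. -/
theorem residue_injective [HasExt.{u} X.Modules] {η : Ext.{u} (ptQ z hz) ω 2}
    (h : (Ext.mk₀ (ptπ z hz)).comp η (zero_add 2) = 0) : η = 0 := by
  haveI := EulerIneqLib.isNoetherian_proper (X := X) k
  have hωi := (exists_trace k hdim hH hω).1
  by_contra hη
  obtain ⟨wI, hI⟩ := shortExact_ptI k hz
  obtain ⟨e, rfl⟩ := Ext.contravariant_sequence_exact₃ hI ω η h (show 1 + 1 = 2 from rfl)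
  obtain ⟨E, a, b, w, he, rfl⟩ := ExtOneLib.exists_extension e
  have hE : FlatMod.IsFinLocFree E := by
    by_contra hnf
    have hfin : ((ptI z hz).support : Set X).Finite := (Set.finite_singleton z).subset (by
      rw [Scheme.IdealSheafData.coe_support_vanishingIdeal]; exact subset_rfl)
    obtain ⟨I', E', a', b', w', φ, g, hlt, he', hφ, hg₁, hg₂⟩ :=
      (ExtStab.not_flf_iff k hdim hωi (ptI z hz) hfin E a b w he).1 hnf
    haveI hm : Mono (ClSub.idealModι I') := inferInstanceAs (Mono (kernel.ι _))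
    have htop : ∀ x : X, x ∉ (I'.support : Set X) := fun x hx => by
      refine hlt.not_ge (Scheme.IdealSheafData.le_support_iff_le_vanishingIdeal.1 fun y hy => ?_)
      obtain rfl : y = z := hy
      have hxs := Scheme.IdealSheafData.support_antitone hlt.le hx
      rw [← SetLike.mem_coe, Scheme.IdealSheafData.coe_support_vanishingIdeal] at hxs
      obtain rfl : x = y := hxs
      exact hx
    haveI : IsIso (ClSub.idealModι I') := (isIso_iff_stalk _).2 fun x => by
      obtain ⟨hinj, hran⟩ := RefOne.idealModι_stalk I' x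
      refine ⟨hinj, fun v => ?_⟩
      obtain ⟨r, rfl⟩ := (RefOne.oEquiv x).surjective v
      exact (hran r).2 (by rw [IdealMulLib.stalkIdeal_eq_top I' (htop x)]; trivial)
    let S : ShortComplex.mk a b w ⟶ ShortComplex.mk a' b' w' :=
      { τ₁ := 𝟙 ω, τ₂ := g, τ₃ := φ, comm₁₂ := (Category.id_comp a').trans hg₁.symm, comm₂₃ := hg₂ }
    have hn := ShortComplex.ShortExact.extClass_naturality he he' S
    rw [Ext.comp_mk₀_id] at hn
    have hφ' : φ = ClSub.idealModι (ptI z hz) ≫ inv (ClSub.idealModι I') := by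
      rw [IsIso.eq_comp_inv, hφ]
    refine hη ?_
    rw [hn, show (Ext.mk₀ S.τ₃) = (Ext.mk₀ (ClSub.idealModι (ptI z hz))).comp
        (Ext.mk₀ (inv (ClSub.idealModι I'))) (zero_add 0) by rw [Ext.mk₀_comp_mk₀]; exact congrArg Ext.mk₀ hφ',
      Ext.comp_assoc_of_second_deg_zero, ShortComplex.ShortExact.extClass_comp_assoc]
  obtain ⟨N, hN, hP1, hO0⟩ := exists_neg_twist k hdim hH hE
  haveI := (exact_tw hN).1
  obtain ⟨W, hW, ⟨d⟩⟩ := AmpleEmb.exists_isInverseOf hN
  haveI := (exact_tw hW).1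
  obtain ⟨i⟩ := nonempty_iso_tw k hz hN
  have hc := twist_class_ne_zero k hz hI he hP1 hO0 i
  obtain ⟨φ, hφ⟩ := exists_hom_comp_ne_zero k hdim hH hω
    (CurveLib.isCoh_tmod (CurveLib.isCoh_of_isInvertible hωi) (CurveLib.isCoh_of_isInvertible hN)) hc
  let u := VBLib.untwist (A := N) (B := W) d
  obtain ⟨s, hs⟩ := exists_sec (AmpleLib.isInvertible_tensor hωi hN) (φ ≫ u.inv.app ω)
  set η := hI.extClass.comp he.extClass (show 1 + 1 = 2 from rfl) with hηdef
  let ξ := η.mapExactFunctor (CurveLib.tensR N)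
  have hφ' : φ = (secTw s).app ((CurveLib.tensR N).obj ω) ≫ u.hom.app ω := by
    refine Eq.symm ((congrArg (· ≫ u.hom.app ω) hs).trans ?_)
    exact (Category.assoc _ _ _).trans ((congrArg (φ ≫ ·) (u.inv_hom_id_app ω)).trans (Category.comp_id φ))
  let f : Coh.structureModule X ⟶ ptQ z hz :=
    ptπ z hz ≫ i.hom ≫ (secTw s).app ((CurveLib.tensR N).obj (ptQ z hz)) ≫ u.hom.app (ptQ z hz)
  have key : ξ.comp (Ext.mk₀ φ) (add_zero 2) =
      (Ext.mk₀ ((secTw s).app ((CurveLib.tensR N).obj (ptQ z hz)) ≫ u.hom.app (ptQ z hz))).comp η (zero_add 2) := by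
    rw [hφ', ← Ext.mk₀_comp_mk₀, ← Ext.comp_assoc_of_third_deg_zero]
    refine (congrArg (fun q => Ext.comp q (Ext.mk₀ (u.hom.app ω)) (add_zero 2)) (ext_slide (secTw s) ξ)).trans ?_
    rw [Ext.comp_assoc_of_third_deg_zero, ← Ext.mk₀_comp_mk₀, Ext.comp_assoc_of_second_deg_zero]
    exact congrArg (fun q => (Ext.mk₀ ((secTw s).app ((CurveLib.tensR N).obj (ptQ z hz)))).comp q (zero_add 2))
      (ext_untwist (CurveLib.tensR N) (CurveLib.tensR W) u η)
  refine hφ ?_
  rw [Ext.comp_assoc_of_third_deg_zero, key, ← Ext.comp_assoc_of_second_deg_zero, Ext.mk₀_comp_mk₀, Category.assoc]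
  obtain ⟨c, hc'⟩ := exists_cst_eq k hz f
  rw [show ptπ z hz ≫ i.hom ≫ (secTw s).app ((CurveLib.tensR N).obj (ptQ z hz)) ≫ u.hom.app (ptQ z hz) = f from rfl,
    hc', ← Ext.mk₀_comp_mk₀, Ext.comp_assoc_of_second_deg_zero, hηdef, h, Ext.comp_zero]

end Groth.Agent.CBLib
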